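import Groth.Agent.CohPullLib.ModDescend
import Groth.Agent.CohPullLib.FlatStage

/-!
# Modules of finite presentation descend along a change of affine base
-/

set_option backward.isDefEq.respectTransparency false
set_option backward.isDefEq.respectTransparency.types false
set_option linter.style.haveILetI false
set_option maxRecDepth 4000
set_option maxHeartbeats 1000000

universe u

open CategoryTheory CategoryTheory.Limits AlgebraicGeometry TopologicalSpace Opposite
open scoped TensorProduct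


namespace Groth.Agent.CohPullLib

open Groth.Agent.QCoh Groth.Agent.ExistEasy

/-- A module of finite presentation comes from a stage. -/
theorem exists_module_descend_over {A : Type u} [CommRing A] (A₀ : Subalgebra ℤ A) (hA₀ : A₀.FG)
    {X X₀ : Scheme.{u}} {f : X ⟶ Spec (CommRingCat.of A)} {f₀ : X₀ ⟶ Spec (CommRingCat.of ↥A₀)}
    [IsProper f₀] [LocallyOfFinitePresentation f₀] {g : X ⟶ X₀}
    (h : IsPullback g f f₀ (Spec.map (CommRingCat.ofHom (algebraMap (↥A₀) A))))
    {F : X.Modules} (hF : Coh.IsQCoh F) (hfp : CohB1.IsFP F) :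
    ∃ (A₁ : Subalgebra ℤ A) (_ : A₁.FG) (X₁ : Scheme.{u}) (f₁ : X₁ ⟶ Spec (CommRingCat.of ↥A₁)) (g₁ : X ⟶ X₁)
      (G : X₁.Modules), IsProper f₁ ∧ LocallyOfFinitePresentation f₁ ∧
        IsPullback g₁ f f₁ (Spec.map (CommRingCat.ofHom (algebraMap (↥A₁) A))) ∧
        (∃ (hle : A₀ ≤ A₁) (q : X₁ ⟶ X₀), g₁ ≫ q = g ∧
          IsPullback q f₁ f₀ (Spec.map (CommRingCat.ofHom (Subalgebra.inclusion hle).toRingHom))) ∧
        Coh.IsQCoh G ∧ CohB1.IsFT G ∧ Nonempty ((Scheme.Modules.pullback g₁).obj G ≅ F) := by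
  classical
  haveI hg : IsAffineHom g := MorphismProperty.of_isPullback h.flip inferInstance
  haveI : CompactSpace X₀ := QuasiCompact.compactSpace_of_compactSpace f₀
  haveI : X₀.IsSeparated := ⟨by
    rw [← Limits.terminal.comp_from f₀]
    infer_instance⟩
  obtain ⟨κ, _, U, hcov, hU⟩ := exists_affine_cover (X := X₀)
  have hU₁ : ∀ k, IsAffineOpen (U k) := fun k => by simpa using hU (p := 0) (fun _ => k)
  have hcov' : ∀ x : X₀, ∃ k, x ∈ U k := fun x => Opens.mem_iSup.1 (hcov ▸ trivial)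
  let V : κ → X.Opens := fun k => g ⁻¹ᵁ U k
  have hV : ∀ k, IsAffineOpen (V k) := fun k => (hU₁ k).preimage g
  let H := (Scheme.Modules.pushforward g).obj F
  have hH : Coh.IsQCoh H := isQCoh_pushforward g hF
  haveI := hfp
  have hft : CohB1.IsFT F := inferInstance
  have hgen : ∀ k, ∃ T : Finset Γ(F, V k), Submodule.span Γ(X, V k) (T : Set Γ(F, V k)) = ⊤ := fun k =>
    (finite_of_isFT hF hft (hV k)).fg_top
  choose T hT using hgen
  obtain ⟨N, hN, hTN⟩ := exists_ftOn_family hH U hU₁ (fun k => (T k : Set Γ(F, V k))) fun k => (T k).finite_toSet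
  let M := N.toModules
  have hM : Coh.IsQCoh M := isQCoh_of_ftOn hH hN
  have hMft : CohB1.IsFT M := isFT_of_ftOn hH hN
  let v : M ⟶ H := N.ι
  let ū := ((Scheme.Modules.pullbackPushforwardAdjunction g).homEquiv M F).symm v
  have hP : Coh.IsQCoh ((Scheme.Modules.pullback g).obj M) := isQCoh_pullback g hM
  have hus : ∀ k, Function.Surjective (ū.app (V k)) := fun k => by
    have hle : Submodule.span Γ(X, V k) (T k : Set Γ(F, V k)) ≤ LinearMap.range (appLin ū (V k)) := by
      rw [Submodule.span_le]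
      intro t ht
      obtain ⟨m, hm⟩ := N.exists_app_eq (hTN k ht)
      exact ⟨pullSec g M le_rfl m, (adjunct_app_pullSec g v le_rfl m).trans ((QCoh.map_id' _ _).trans hm)⟩
    rw [hT k] at hle
    exact fun z => hle (Submodule.mem_top : z ∈ ⊤)
  have hcovV : ∀ x : X, ∃ k, x ∈ V k := fun x => hcov' (g x)
  haveI : Epi ū := epi_of_surjective_cover hP hF ū V hV hcovV hus
  have hker : ∀ k, ∃ K : Finset Γ((Scheme.Modules.pullback g).obj M, V k),
      Submodule.span Γ(X, V k) (K : Set _) = LinearMap.ker (appLin ū (V k)) := fun k => by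
    haveI := finitePresentation_of_isFP hfp (hV k)
    haveI := finite_of_isFT hP (isFT_pullback g hM hMft) (hV k)
    exact Module.FinitePresentation.fg_ker _ (hus k)
  choose K hK using hker
  have hcoef : ∀ k, ∀ z ∈ K k, ∃ (n : ℕ) (b : Fin n → Γ(X, V k)) (m : Fin n → Γ(M, U k)),
      ∑ i, b i • pullSec g M (le_refl (V k)) (m i) = z := fun k z _ => by
    obtain ⟨n, b, w, hw⟩ := Submodule.mem_span_set'.1 (mem_span_range_pullSec g hM (hV k) (hU₁ k) le_rfl z)
    choose m hm using fun i => (w i).2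
    exact ⟨n, b, m, by simp only [hm]; exact hw⟩
  choose n b m hbm using hcoef
  have hfin : ∀ (k) (z) (hz : z ∈ K k) (i), ∃ t : Finset A, b k z hz i ∈ Subring.closure (Set.range (g.app (U k)) ∪
      (fun a => X.presheaf.map (homOfLE (le_top : g ⁻¹ᵁ U k ≤ ⊤)).op (Coh.toGlobal f a)) '' t) :=
    fun k z hz i => exists_finite_closure h (hU₁ k) _
  choose t ht using hfin
  have := Fintype.ofFinite κ
  let s : Finset A := Finset.univ.biUnion fun k => (K k).attach.biUnion fun z =>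
    Finset.univ.biUnion fun i => t k z.1 z.2 i
  let A₁ : Subalgebra ℤ A := A₀ ⊔ Algebra.adjoin ℤ (s : Set A)
  have hA₁ : A₁.FG := hA₀.sup (Subalgebra.fg_adjoin_finset s)
  let i₁ : ↥A₀ →+* ↥A₁ := (Subalgebra.inclusion (le_sup_left : A₀ ≤ A₁)).toRingHom
  let X₁ := pullback f₀ (Spec.map (CommRingCat.ofHom i₁))
  let q : X₁ ⟶ X₀ := pullback.fst _ _
  let f₁ : X₁ ⟶ Spec (CommRingCat.of ↥A₁) := pullback.snd _ _
  have hq : IsPullback q f₁ f₀ (Spec.map (CommRingCat.ofHom i₁)) := IsPullback.of_hasPullback _ _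
  haveI : IsAffineHom q := MorphismProperty.of_isPullback hq.flip inferInstance
  have hcomp : Spec.map (CommRingCat.ofHom (algebraMap (↥A₁) A)) ≫ Spec.map (CommRingCat.ofHom i₁) =
      Spec.map (CommRingCat.ofHom (algebraMap (↥A₀) A)) := by
    rw [← Spec.map_comp]
    rfl
  let g₁ : X ⟶ X₁ := hq.lift g (f ≫ Spec.map (CommRingCat.ofHom (algebraMap (↥A₁) A)))
    (by rw [Category.assoc, hcomp, h.w])
  have hg₁q : g₁ ≫ q = g := hq.lift_fst _ _ _
  have h₁ : IsPullback g₁ f f₁ (Spec.map (CommRingCat.ofHom (algebraMap (↥A₁) A))) :=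
    IsPullback.of_right (by rw [hcomp, hg₁q]; exact h) (hq.lift_snd _ _ _) hq
  haveI hg₁ : IsAffineHom g₁ := MorphismProperty.of_isPullback h₁.flip inferInstance
  let U' : κ → X₁.Opens := fun k => q ⁻¹ᵁ U k
  have hle : ∀ k, V k ≤ g₁ ⁻¹ᵁ U' k := fun k => by
    rw [← Scheme.Hom.comp_preimage, hg₁q]
  let M₁ := (Scheme.Modules.pullback q).obj M
  have hM₁ : Coh.IsQCoh M₁ := isQCoh_pullback q hM
  let c : (Scheme.Modules.pullback g₁).obj M₁ ⟶ (Scheme.Modules.pullback g).obj M :=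
    (Scheme.Modules.pullbackComp g₁ q).hom.app M ≫ (Scheme.Modules.pullbackCongr hg₁q).hom.app M
  haveI : IsIso c := inferInstance
  let w : M₁ ⟶ (Scheme.Modules.pushforward g₁).obj F :=
    (Scheme.Modules.pullbackPushforwardAdjunction g₁).homEquiv _ _ (c ≫ ū)
  have hW : Coh.IsQCoh ((Scheme.Modules.pushforward g₁).obj F) := isQCoh_pushforward g₁ hF
  let G := cokernel (kernel.ι w)
  have hG : Coh.IsQCoh G := QCoh.isQCoh_cokernel (QCoh.isQCoh_kernel hM₁ hW w) hM₁ _
  let π : M₁ ⟶ G := cokernel.π (kernel.ι w)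
  let i : G ⟶ (Scheme.Modules.pushforward g₁).obj F := Abelian.factorThruCoimage w
  haveI : Mono i := inferInstanceAs (Mono (Abelian.factorThruCoimage w))
  have hπi : π ≫ i = w := Abelian.coimage.fac w
  let ψ := ((Scheme.Modules.pullbackPushforwardAdjunction g₁).homEquiv G F).symm i
  have hψ : (Scheme.Modules.pullback g₁).map π ≫ ψ = c ≫ ū := by
    rw [← Adjunction.homEquiv_naturality_left_symm, hπi, Equiv.symm_apply_apply]
  have hGp : Coh.IsQCoh ((Scheme.Modules.pullback g₁).obj G) := isQCoh_pullback g₁ hG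
  have hM₁p : Coh.IsQCoh ((Scheme.Modules.pullback g₁).obj M₁) := isQCoh_pullback g₁ hM₁
  have hGft : CohB1.IsFT G := (QCoh.isFT_iff hG).2 fun W => by
    haveI := QCoh.finite_of_isFT hM₁ (isFT_pullback q hM hMft) W.2
    exact Module.Finite.of_surjective (QCoh.appLin π W.1) (QCoh.app_surjective_of_epi hM₁ hG π W.2)
  have hbij : ∀ k, Function.Bijective (ψ.app (V k)) := by
    intro k
    have hcsurj : Function.Surjective (((Scheme.Modules.pullback g₁).map π).app (V k)) := by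
      haveI : Epi ((Scheme.Modules.pullback g₁).map π) := inferInstance
      exact QCoh.app_surjective_of_epi hM₁p hGp _ (hV k)
    have hψv : ∀ y, ψ.app (V k) (((Scheme.Modules.pullback g₁).map π).app (V k) y) = ū.app (V k) (c.app (V k) y) :=
      fun y => congrArg (fun φ => Scheme.Modules.Hom.app φ (V k) y) hψ
    refine ⟨(injective_iff_map_eq_zero _).2 fun z hz => ?_, fun x => ?_⟩
    swap
    · obtain ⟨z, rfl⟩ := hus k x
      obtain ⟨y, rfl⟩ := (ConcreteCategory.bijective_of_isIso (c.app (V k))).2 z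
      exact ⟨_, hψv y⟩
    obtain ⟨y, rfl⟩ := hcsurj z
    rw [hψv] at hz
    let L : Γ((Scheme.Modules.pullback g).obj M, V k) →ₗ[Γ(X, V k)] Γ((Scheme.Modules.pullback g₁).obj G, V k) :=
      (appLin ((Scheme.Modules.pullback g₁).map π) (V k)).comp (appLin (inv c) (V k))
    have hc : ∀ y', L (c.app (V k) y') = ((Scheme.Modules.pullback g₁).map π).app (V k) y' := fun y' => by
      show ((Scheme.Modules.pullback g₁).map π).app (V k) ((inv c).app (V k) (c.app (V k) y')) = _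
      exact congrArg _ (congrArg (fun φ => Scheme.Modules.Hom.app φ (V k) y') (IsIso.hom_inv_id c))
    rw [← hc]
    have hzero : Submodule.span Γ(X, V k) (K k : Set _) ≤ LinearMap.ker L := by
      rw [Submodule.span_le]
      intro z hzK
      have hb : ∀ j, ∃ b₁ : Γ(X₁, U' k), g₁.appLE (U' k) (V k) (hle k) b₁ = b k z hzK j := by
        intro j
        have hsub : Subring.closure (Set.range (g.app (U k)) ∪
            (fun a => X.presheaf.map (homOfLE (le_top : g ⁻¹ᵁ U k ≤ ⊤)).op (Coh.toGlobal f a)) '' (t k z hzK j)) ≤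
            (g₁.appLE (U' k) (V k) (hle k)).hom.range := by
          rw [Subring.closure_le]
          rintro _ (⟨r, rfl⟩ | ⟨a, ha, rfl⟩)
          · refine ⟨q.app (U k) r, ?_⟩
            show (q.app (U k) ≫ g₁.appLE (U' k) (V k) (hle k)) r = g.app (U k) r
            rw [Scheme.Hom.app_eq_appLE, Scheme.Hom.appLE_comp_appLE, Scheme.Hom.app_eq_appLE]
            simp only [hg₁q]
            rfl
          · have ha₁ : a ∈ A₁ := by
              refine (le_sup_right : Algebra.adjoin ℤ (s : Set A) ≤ A₁) (Algebra.subset_adjoin ?_)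
              exact Finset.mem_biUnion.2 ⟨k, Finset.mem_univ _, Finset.mem_biUnion.2
                ⟨⟨z, hzK⟩, Finset.mem_attach _ _, Finset.mem_biUnion.2 ⟨j, Finset.mem_univ _, ha⟩⟩⟩
            refine ⟨X₁.presheaf.map (homOfLE (le_top : U' k ≤ ⊤)).op (Coh.toGlobal f₁ (⟨a, ha₁⟩ : ↥A₁)), ?_⟩
            show (X₁.presheaf.map (homOfLE (le_top : U' k ≤ ⊤)).op ≫ g₁.appLE (U' k) (V k) (hle k))
              (Coh.toGlobal f₁ (⟨a, ha₁⟩ : ↥A₁)) = _
            rw [Scheme.Hom.map_appLE]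
            have e := toGlobal_comm f₁ f g₁ h₁.w (⟨a, ha₁⟩ : ↥A₁)
            refine Eq.trans ?_ (congrArg (X.presheaf.map (homOfLE (le_top : V k ≤ ⊤)).op) e).symm
            rfl
        exact hsub (ht k z hzK j)
      choose b₁ hb₁ using hb
      let y₁ : Γ(M₁, U' k) := ∑ j, b₁ j • pullSec q M (le_refl (U' k)) (m k z hzK j)
      let y₂ : Γ((Scheme.Modules.pullback g₁).obj M₁, V k) := pullSec g₁ M₁ (hle k) y₁
      have hy₂ : c.app (V k) y₂ = z := by
        let P : Γ(M₁, U' k) →+ Γ((Scheme.Modules.pullback g).obj M, V k) :=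
          AddMonoidHom.mk' (fun y => c.app (V k) (pullSec g₁ M₁ (hle k) y))
            fun y y' => by rw [pullSec_add, map_add]
        show P y₁ = z
        refine Eq.trans ?_ (hbm k z hzK)
        refine (map_sum P _ _).trans ?_
        refine Finset.sum_congr rfl fun j _ => ?_
        show c.app (V k) (pullSec g₁ M₁ (hle k) (b₁ j • pullSec q M le_rfl (m k z hzK j))) = _
        rw [pullSec_smul, Scheme.Modules.Hom.app_smul, hb₁]
        refine congrArg (b k z hzK j • ·) ?_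
        refine (congrArg (((Scheme.Modules.pullbackCongr hg₁q).hom.app M).app (V k))
          (pullSec_comp g₁ q M le_rfl (hle k) (m k z hzK j))).trans ?_
        exact pullSec_congr hg₁q M _ _
      have hw₀ : i.app (U' k) (π.app (U' k) y₁) = 0 := by
        have h0 : ū.app (V k) z = 0 := by
          have : z ∈ LinearMap.ker (appLin ū (V k)) := hK k ▸ Submodule.subset_span hzK
          exact this
        have h1 : i.app (U' k) (π.app (U' k) y₁) = w.app (U' k) y₁ :=
          congrArg (fun φ => Scheme.Modules.Hom.app φ (U' k) y₁) hπi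
        refine h1.trans ?_
        have h2 := adjunct_app_pullSec g₁ w (hle k) y₁
        rw [Equiv.symm_apply_apply] at h2
        have h3 : F.presheaf.map (homOfLE (hle k)).op (show Γ(F, g₁ ⁻¹ᵁ U' k) from w.app (U' k) y₁) = 0 :=
          h2.symm.trans ((congrArg (ū.app (V k)) hy₂).trans h0)
        have he : g₁ ⁻¹ᵁ U' k ≤ V k := by rw [← Scheme.Hom.comp_preimage, hg₁q]
        have h4 : F.presheaf.map (homOfLE he).op (F.presheaf.map (homOfLE (hle k)).op
            (show Γ(F, g₁ ⁻¹ᵁ U' k) from w.app (U' k) y₁)) = (show Γ(F, g₁ ⁻¹ᵁ U' k) from w.app (U' k) y₁) :=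
          (QCoh.map_map _ _ _).trans (QCoh.map_id' _ _)
        exact h4.symm.trans ((congrArg (F.presheaf.map (homOfLE he).op) h3).trans (map_zero _))
      show L z = 0
      rw [← hy₂, hc]
      refine (pullSec_natural g₁ π (hle k) y₁).trans ?_
      rw [(QCoh.app_injective i (U' k)) (hw₀.trans (map_zero _).symm)]
      exact map_zero (AddMonoidHom.mk' (pullSec g₁ G (hle k)) (pullSec_add g₁ G (hle k)))
    exact hzero ((hK k).symm ▸ LinearMap.mem_ker.2 hz)
  haveI : IsIso ψ := isIso_of_bijective_cover hGp hF ψ V hV hcovV hbij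
  exact ⟨A₁, hA₁, X₁, f₁, g₁, G, MorphismProperty.of_isPullback hq inferInstance,
    MorphismProperty.of_isPullback hq inferInstance, h₁, ⟨le_sup_left, q, hg₁q, hq⟩, hG, hGft, ⟨asIso ψ⟩⟩


/-- A model of a proper flat family becomes flat at a larger stage. -/
theorem exists_flat_stage_over {A : Type u} [CommRing A] {A₁ : Subalgebra ℤ A} (hA₁ : A₁.FG)
    {X X₁ : Scheme.{u}} {f : X ⟶ Spec (CommRingCat.of A)} {f₁ : X₁ ⟶ Spec (CommRingCat.of ↥A₁)}
    [IsProper f₁] {g₁ : X ⟶ X₁}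
    (h₁ : IsPullback g₁ f f₁ (Spec.map (CommRingCat.ofHom (algebraMap (↥A₁) A))))
    {G : X₁.Modules} (hG : Coh.IsQCoh G) (hGft : CohB1.IsFT G) {F : X.Modules} (hF : Coh.IsQCoh F)
    (ψ : (Scheme.Modules.pullback g₁).obj G ≅ F) (hfl : FlatMod.IsFlatOver f F) :
    ∃ (A₂ : Subalgebra ℤ A) (hle : A₁ ≤ A₂) (X₂ : Scheme.{u}) (f₂ : X₂ ⟶ Spec (CommRingCat.of ↥A₂))
      (g₂ : X ⟶ X₂) (q : X₂ ⟶ X₁), A₂.FG ∧ IsProper f₂ ∧
        IsPullback g₂ f f₂ (Spec.map (CommRingCat.ofHom (algebraMap (↥A₂) A))) ∧ g₂ ≫ q = g₁ ∧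
        IsPullback q f₂ f₁ (Spec.map (CommRingCat.ofHom (Subalgebra.inclusion hle).toRingHom)) ∧
        FlatMod.IsFlatOver f₂ ((Scheme.Modules.pullback q).obj G) := by
  classical
  haveI := isNoetherianRing_of_fg hA₁
  haveI : IsLocallyNoetherian X₁ := LocallyOfFiniteType.isLocallyNoetherian f₁
  haveI : CompactSpace X₁ := QuasiCompact.compactSpace_of_compactSpace f₁
  haveI : X₁.IsSeparated := ⟨by
    rw [← Limits.terminal.comp_from f₁]
    infer_instance⟩
  haveI : IsAffineHom g₁ := MorphismProperty.of_isPullback h₁.flip inferInstance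
  obtain ⟨κ, _, U, hcov, hU⟩ := exists_affine_cover (X := X₁)
  have hU₁ : ∀ k, IsAffineOpen (U k) := fun k => by simpa using hU (p := 0) (fun _ => k)
  have hcov' : ∀ x : X₁, ∃ k, x ∈ U k := fun x => Opens.mem_iSup.1 (hcov ▸ trivial)
  have hstage : ∀ k, ∃ i : StageIdx A₁,
      letI := secModule (Coh.toGlobal f₁) G (U k)
      Module.Flat (StageRing i) (StageRing i ⊗[↥A₁] Γ(G, U k)) := by
    intro k
    haveI : IsNoetherianRing Γ(X₁, U k) := IsLocallyNoetherian.component_noetherian ⟨U k, hU₁ k⟩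
    let ρ : ↥A₁ →+* Γ(X₁, U k) := (X₁.presheaf.map (homOfLE (le_top : U k ≤ ⊤)).op).hom.comp (Coh.toGlobal f₁)
    letI : Algebra ↥A₁ Γ(X₁, U k) := ρ.toAlgebra
    letI := secModule (Coh.toGlobal f₁) G (U k)
    haveI : IsScalarTower ↥A₁ Γ(X₁, U k) Γ(G, U k) := .of_algebraMap_smul fun _ _ => rfl
    haveI : Algebra.FiniteType ↥A₁ Γ(X₁, U k) := by
      have h2 : RingHom.FiniteType (f₁.appLE ⊤ (U k) (fun _ _ => trivial)).hom :=
        f₁.finiteType_appLE (isAffineOpen_top _) (hU₁ k) _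
      have h3 : RingHom.FiniteType ρ := h2.comp (RingHom.FiniteType.of_surjective _
        (ConcreteCategory.bijective_of_isIso (Scheme.ΓSpecIso (CommRingCat.of ↥A₁)).inv).2)
      exact h3
    haveI : Algebra.FinitePresentation ↥A₁ Γ(X₁, U k) := Algebra.FinitePresentation.of_finiteType.1 ‹_›
    haveI := QCoh.finite_of_isFT hG hGft (hU₁ k)
    haveI : Module.FinitePresentation Γ(X₁, U k) Γ(G, U k) := Module.finitePresentation_of_finite _ _
    refine exists_flat_stage_sub hA₁ (B₀ := Γ(X₁, U k)) Γ(G, U k) ?_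
    let F' := (Scheme.Modules.pullback g₁).obj G
    have hρ := toGlobal_comm f₁ f g₁ h₁.w
    letI := secModule (Coh.toGlobal f) F' (g₁ ⁻¹ᵁ U k)
    letI := secModule ((Coh.toGlobal f).comp (algebraMap (↥A₁) A)) F' (g₁ ⁻¹ᵁ U k)
    haveI : IsScalarTower ↥A₁ A Γ(F', g₁ ⁻¹ᵁ U k) := .of_algebraMap_smul fun _ _ => rfl
    let η : G ⟶ (Scheme.Modules.pushforward g₁).obj F' :=
      (Scheme.Modules.pullbackPushforwardAdjunction g₁).unit.app G
    have hbc : IsBaseChange A (secLin (Coh.toGlobal f₁) (Coh.toGlobal f) g₁ η hρ (U k) (g₁ ⁻¹ᵁ U k) le_rfl) :=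
      isAffineBC_of_isPullback h₁ hG (U k) (hU₁ k)
    haveI : Module.Flat A Γ(F', g₁ ⁻¹ᵁ U k) :=
      flat_secModule_of_isFlatOver f (isQCoh_pullback g₁ hG)
        (isFlatOver_of_iso (f := f) ψ.symm hF hfl) ((hU₁ k).preimage g₁)
    exact Module.Flat.of_linearEquiv hbc.equiv
  choose i hi using hstage
  have := Fintype.ofFinite κ
  let A₂ : Subalgebra ℤ A := A₁ ⊔ Finset.univ.sup fun k => (i k).1
  have hA₂ : A₂.FG := hA₁.sup (Finset.sup_induction ⟨∅, by simp⟩ (fun a ha b hb => ha.sup hb) fun k _ => (i k).2.1)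
  letI : Algebra ↥A₁ ↥A₂ := (Subalgebra.inclusion (le_sup_left : A₁ ≤ A₂)).toRingHom.toAlgebra
  let X₂ := pullback f₁ (Spec.map (CommRingCat.ofHom (algebraMap (↥A₁) (↥A₂))))
  let q : X₂ ⟶ X₁ := pullback.fst _ _
  let f₂ : X₂ ⟶ Spec (CommRingCat.of ↥A₂) := pullback.snd _ _
  have hq : IsPullback q f₂ f₁ (Spec.map (CommRingCat.ofHom (algebraMap (↥A₁) (↥A₂)))) := IsPullback.of_hasPullback _ _
  haveI : IsAffineHom q := MorphismProperty.of_isPullback hq.flip inferInstance
  have hcomp : Spec.map (CommRingCat.ofHom (algebraMap (↥A₂) A)) ≫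
      Spec.map (CommRingCat.ofHom (algebraMap (↥A₁) (↥A₂))) =
      Spec.map (CommRingCat.ofHom (algebraMap (↥A₁) A)) := by
    rw [← Spec.map_comp]
    rfl
  let g₂ : X ⟶ X₂ := hq.lift g₁ (f ≫ Spec.map (CommRingCat.ofHom (algebraMap (↥A₂) A)))
    (by rw [Category.assoc, hcomp, h₁.w])
  have hg₂q : g₂ ≫ q = g₁ := hq.lift_fst _ _ _
  have h₂ : IsPullback g₂ f f₂ (Spec.map (CommRingCat.ofHom (algebraMap (↥A₂) A))) :=
    IsPullback.of_right (by rw [hcomp, hg₂q]; exact h₁) (hq.lift_snd _ _ _) hq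
  let G₂ := (Scheme.Modules.pullback q).obj G
  refine ⟨A₂, le_sup_left, X₂, f₂, g₂, q, hA₂, MorphismProperty.of_isPullback hq inferInstance, h₂, hg₂q, hq,
    ?_⟩
  refine isFlatOver_of_flat_secModule f₂ (isQCoh_pullback q hG) (fun k => q ⁻¹ᵁ U k) (fun k => (hU₁ k).preimage q)
    (fun x => hcov' (q x)) fun k => ?_
  letI := secModule (Coh.toGlobal f₁) G (U k)
  letI := secModule (Coh.toGlobal f₂) G₂ (q ⁻¹ᵁ U k)
  letI := secModule ((Coh.toGlobal f₂).comp (algebraMap (↥A₁) (↥A₂))) G₂ (q ⁻¹ᵁ U k)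
  haveI : IsScalarTower ↥A₁ ↥A₂ Γ(G₂, q ⁻¹ᵁ U k) := .of_algebraMap_smul fun _ _ => rfl
  letI : Algebra (StageRing (i k)) ↥A₂ :=
    (Subalgebra.inclusion (show (i k).1 ≤ A₂ from
      (Finset.le_sup (f := fun k => (i k).1) (Finset.mem_univ k)).trans le_sup_right)).toRingHom.toAlgebra
  haveI : IsScalarTower ↥A₁ (StageRing (i k)) ↥A₂ := IsScalarTower.of_algebraMap_eq fun _ => rfl
  haveI := hi k
  haveI : Module.Flat ↥A₂ (↥A₂ ⊗[↥A₁] Γ(G, U k)) :=
    Module.Flat.of_linearEquiv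
      (TensorProduct.AlgebraTensorModule.cancelBaseChange ↥A₁ (StageRing (i k)) ↥A₂ ↥A₂ Γ(G, U k)).symm
  let η : G ⟶ (Scheme.Modules.pushforward q).obj G₂ :=
    (Scheme.Modules.pullbackPushforwardAdjunction q).unit.app G
  have hbc : IsBaseChange ↥A₂ (secLin (Coh.toGlobal f₁) (Coh.toGlobal f₂) q η
      (toGlobal_comm f₁ f₂ q hq.w) (U k) (q ⁻¹ᵁ U k) le_rfl) :=
    isAffineBC_of_isPullback hq hG (U k) (hU₁ k)
  exact Module.Flat.of_linearEquiv hbc.equiv.symm


end Groth.Agent.CohPullLib
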