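import Groth.Agent.HilbFib.Basic
import Groth.Agent.HilbFib.Descend
import Groth.Agent.RGLib.Lim8RelAmple
import Groth.Agent.RGLib.RelAmplePn
import Groth.Agent.IntNum.Push
import Groth.Agent.FlatBC6.AffZero
import Groth.Agent.S9710
import Groth.Agent.S4381
import Groth.Agent.S1178
import Groth.Agent.S12442
import Groth.Agent.ChowX.QuasiProj

/-!
# Projective families over an affine base and their Noetherian models
-/

set_option autoImplicit false
set_option backward.isDefEq.respectTransparency false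
set_option backward.isDefEq.respectTransparency.types false
set_option linter.style.haveILetI false
set_option maxHeartbeats 800000

universe u

open CategoryTheory CategoryTheory.Limits AlgebraicGeometry TopologicalSpace

noncomputable section

namespace Groth.Agent.HilbFib

open Groth.Agent

/-- The base morphism of projective space is proper. -/
theorem isProper_toBase (n : ℕ) (S : Scheme.{u}) : IsProper (CohB1.ProjSpaceOver.toBase n S) :=
  haveI : IsProper (CohB1.ProjSpace.toSpec n (ULift.{u} ℤ)) := PnCoh.Chow.isProper_toSpec n _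
  MorphismProperty.pullback_snd _ _ inferInstance

theorem lfp_toBase (n : ℕ) (S : Scheme.{u}) : LocallyOfFinitePresentation (CohB1.ProjSpaceOver.toBase n S) := by
  haveI : IsProper (CohB1.ProjSpace.toSpec n (ULift.{u} ℤ)) := PnCoh.Chow.isProper_toSpec n _
  haveI : IsLocallyNoetherian (Spec (CommRingCat.of (ULift.{u} ℤ))) := by
    haveI : IsNoetherianRing (ULift.{u} ℤ) := isNoetherianRing_of_ringEquiv ℤ ULift.ringEquiv.symm
    infer_instance
  haveI : LocallyOfFinitePresentation (CohB1.ProjSpace.toSpec n (ULift.{u} ℤ)) := inferInstance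
  exact MorphismProperty.pullback_snd (P := @LocallyOfFinitePresentation) _ _ inferInstance

theorem isPullback_projMap (n : ℕ) {T S : Scheme.{u}} (φ : T ⟶ S) :
    IsPullback (FGA.projMap n φ) (CohB1.ProjSpaceOver.toBase n T) (CohB1.ProjSpaceOver.toBase n S) φ := by
  refine IsPullback.of_right (h₁₂ := pullback.fst (CohB1.ProjSpace.toSpec n (ULift.{u} ℤ)) (specULiftZIsTerminal.from S))
    (v₁₃ := CohB1.ProjSpace.toSpec n (ULift.{u} ℤ)) (h₂₂ := specULiftZIsTerminal.from S) ?_
    (pullback.lift_snd _ _ _) (IsPullback.of_hasPullback _ _)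
  rw [show FGA.projMap n φ ≫ pullback.fst _ _ = pullback.fst (CohB1.ProjSpace.toSpec n (ULift.{u} ℤ))
      (specULiftZIsTerminal.from T) from (pullback.lift_fst _ _ _).trans (Category.comp_id _),
    show φ ≫ specULiftZIsTerminal.from S = specULiftZIsTerminal.from T from specULiftZIsTerminal.hom_ext _ _]
  exact IsPullback.of_hasPullback _ _

theorem projMap_twist (n : ℕ) {T S : Scheme.{u}} (φ : T ⟶ S) (d : ℤ) :
    Nonempty ((Scheme.Modules.pullback (FGA.projMap n φ)).obj (Twist.twistOver n S d) ≅ Twist.twistOver n T d) :=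
  RGLib.Lim8.nonempty_pull_pull _ _ _ _ ((pullback.lift_fst _ _ _).trans (Category.comp_id _))

theorem isRelAmple_twistOver (n : ℕ) (S : Scheme.{u}) :
    RelAmple.IsRelAmple (CohB1.ProjSpaceOver.toBase n S) (Twist.twistOver n S 1) :=
  ChowX.isRelAmple_twistOver n S

/-- A power of a relatively ample module embeds into projective space over an affine base. -/
theorem exists_embedding {A : Type u} [CommRing A] {X : Scheme.{u}} (f : X ⟶ Spec (CommRingCat.of A)) [IsProper f]
    [LocallyOfFinitePresentation f] {L : X.Modules} (hL : RelAmple.IsRelAmple f L) :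
    ∃ (d n : ℕ) (i : X ⟶ CohB1.ProjSpaceOver n (Spec (CommRingCat.of A))), 0 < d ∧ IsClosedImmersion i ∧
      LocallyOfFinitePresentation i ∧ i ≫ CohB1.ProjSpaceOver.toBase n _ = f ∧
      Nonempty (CohB1.tensorPow L d ≅ (Scheme.Modules.pullback i).obj (Twist.twistOver n _ 1)) := by
  obtain ⟨d₀, hd₀, h⟩ := S9710.result f L ((S4381.result f L).1 hL)
  obtain ⟨n, i, hi, hif, he⟩ := h d₀ le_rfl
  haveI := hi
  haveI := isProper_toBase n (Spec (CommRingCat.of A))
  haveI : IsProper (i ≫ CohB1.ProjSpaceOver.toBase n (Spec (CommRingCat.of A))) := hif ▸ ‹IsProper f›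
  haveI : IsProper i := IsProper.of_comp i (CohB1.ProjSpaceOver.toBase n (Spec (CommRingCat.of A)))
  haveI : IsClosedImmersion i := (IsClosedImmersion.iff_isProper_and_mono i).2 ⟨inferInstance, inferInstance⟩
  haveI : LocallyOfFinitePresentation (i ≫ CohB1.ProjSpaceOver.toBase n (Spec (CommRingCat.of A))) :=
    hif ▸ ‹LocallyOfFinitePresentation f›
  exact ⟨d₀, n, i, hd₀, inferInstance,
    S12442.locallyOfFinitePresentation_of_comp i (CohB1.ProjSpaceOver.toBase n (Spec (CommRingCat.of A))), hif, he⟩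

/-- Modules of finite presentation on projective space come from Noetherian bases. -/
theorem exists_pn_model {A : Type u} [CommRing A] {n : ℕ} {M : (CohB1.ProjSpaceOver n (Spec (CommRingCat.of A))).Modules}
    (hM : CohB1.IsFP M) :
    ∃ (A₁ : Subalgebra ℤ A) (X₁ : Scheme.{u}) (f₁ : X₁ ⟶ Spec (CommRingCat.of ↥A₁))
      (g₁ : CohB1.ProjSpaceOver n (Spec (CommRingCat.of A)) ⟶ X₁) (L₁ G : X₁.Modules),
      A₁.FG ∧ IsProper f₁ ∧
        IsPullback g₁ (CohB1.ProjSpaceOver.toBase n _) f₁ (Spec.map (CommRingCat.ofHom (algebraMap (↥A₁) A))) ∧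
        RelAmple.IsRelAmple f₁ L₁ ∧ Coh.IsCoh G ∧
        Nonempty ((Scheme.Modules.pullback g₁).obj L₁ ≅ Twist.twistOver n _ 1) ∧
        Nonempty ((Scheme.Modules.pullback g₁).obj G ≅ M) := by
  let A₀ : Subalgebra ℤ A := ⊥
  let φ := Spec.map (CommRingCat.ofHom (algebraMap (↥A₀) A))
  haveI := isProper_toBase n (Spec (CommRingCat.of ↥A₀))
  haveI := lfp_toBase n (Spec (CommRingCat.of ↥A₀))
  obtain ⟨A₁, hA₁, X₁, f₁, g₁, G, hf₁, hlfp₁, h₁, ⟨hle, q, hgq, hq⟩, hG, hGft, hψ⟩ :=
    CohPullLib.exists_module_descend_over A₀ Subalgebra.fg_bot (isPullback_projMap n φ) (QCoh.isQCoh_of_isFP hM) hM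
  refine ⟨A₁, X₁, f₁, g₁, (Scheme.Modules.pullback q).obj (Twist.twistOver n _ 1), G, hA₁, hf₁, h₁,
    RGLib.Lim8.isRelAmple_of_isPullback hq (isRelAmple_twistOver n _), ⟨hG, hGft⟩, ?_, hψ⟩
  exact ⟨(RGLib.Lim8.nonempty_pull_pull _ q g₁ _ hgq).some ≪≫ (projMap_twist n φ 1).some⟩

/-- Flat modules of finite presentation on projective space come from flat families over Noetherian bases. -/
theorem exists_pn_flat_model {A : Type u} [CommRing A] {n : ℕ}
    {M : (CohB1.ProjSpaceOver n (Spec (CommRingCat.of A))).Modules} (hM : CohB1.IsFP M)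
    (hfl : FlatMod.IsFlatOver (CohB1.ProjSpaceOver.toBase n (Spec (CommRingCat.of A))) M) :
    ∃ (A₁ : Subalgebra ℤ A) (X₁ : Scheme.{u}) (f₁ : X₁ ⟶ Spec (CommRingCat.of ↥A₁))
      (g₁ : CohB1.ProjSpaceOver n (Spec (CommRingCat.of A)) ⟶ X₁) (L₁ G : X₁.Modules),
      A₁.FG ∧ IsProper f₁ ∧
        IsPullback g₁ (CohB1.ProjSpaceOver.toBase n _) f₁ (Spec.map (CommRingCat.ofHom (algebraMap (↥A₁) A))) ∧
        RelAmple.IsRelAmple f₁ L₁ ∧ Coh.IsCoh G ∧ FlatMod.IsFlatOver f₁ G ∧
        Nonempty ((Scheme.Modules.pullback g₁).obj L₁ ≅ Twist.twistOver n _ 1) ∧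
        Nonempty ((Scheme.Modules.pullback g₁).obj G ≅ M) := by
  obtain ⟨A₁, X₁, f₁, g₁, L₁, G, hA₁, hf₁, h₁, hamp, hG, ⟨eL⟩, ⟨ψ⟩⟩ := exists_pn_model hM
  haveI := hf₁
  obtain ⟨A₂, hle, X₂, f₂, g₂, q, hA₂, hf₂, h₂, hgq, hq, hflat⟩ :=
    CohPullLib.exists_flat_stage_over hA₁ h₁ hG.1 hG.2 (QCoh.isQCoh_of_isFP hM) ψ hfl
  exact ⟨A₂, X₂, f₂, g₂, _, _, hA₂, hf₂, h₂, RGLib.Lim8.isRelAmple_of_isPullback hq hamp,
    ⟨QCoh.isQCoh_pullback q hG.1, QCoh.isFT_pullback q hG.1 hG.2⟩, hflat,
    ⟨(RGLib.Lim8.nonempty_pull_pull _ q g₂ _ hgq).some ≪≫ eL⟩,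
    ⟨(RGLib.Lim8.nonempty_pull_pull _ q g₂ _ hgq).some ≪≫ ψ⟩⟩

/-- Pushforward along a closed immersion of finite presentation preserves finite presentation. -/
theorem isFP_push {X Y : Scheme.{u}} (i : X ⟶ Y) [IsClosedImmersion i] [LocallyOfFinitePresentation i]
    {M : X.Modules} (hM : CohB1.IsFP M) : CohB1.IsFP ((Coh.push i).obj M) := by
  haveI : M.IsQuasicoherent := QCoh.isQCoh_of_isFP hM
  exact (S1178.result i M).1 hM

/-- Twisting commutes with direct image along a closed immersion. -/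
theorem push_tw {X Y : Scheme.{u}} (i : X ⟶ Y) [IsClosedImmersion i] (M : X.Modules) (O1 : Y.Modules) (m : ℕ) :
    Nonempty ((Coh.push i).obj (tw M ((Scheme.Modules.pullback i).obj O1) m) ≅ tw ((Coh.push i).obj M) O1 m) :=
  IntNum.push_tensorPows i M (fun _ : Fin 1 => O1) (fun _ => m)

/-- Fibre Euler characteristics of a direct image along a closed immersion. -/
theorem χ_push {X Y S : Scheme.{u}} (p : Y ⟶ S) [IsProper p] (i : X ⟶ Y) [IsClosedImmersion i]
    {M : X.Modules} (hM : Coh.IsQCoh M) (s : S) : χ p ((Coh.push i).obj M) s = χ (i ≫ p) M s := by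
  let m : (i ≫ p).fiber s ⟶ p.fiber s := pullback.lift ((i ≫ p).fiberι s ≫ i) ((i ≫ p).fiberToSpecResidueField s)
    (by rw [Category.assoc]; exact pullback.condition)
  have h1 : m ≫ p.fiberι s = (i ≫ p).fiberι s ≫ i := pullback.lift_fst _ _ _
  have h2 : m ≫ p.fiberToSpecResidueField s = (i ≫ p).fiberToSpecResidueField s := pullback.lift_snd _ _ _
  have sq : IsPullback ((i ≫ p).fiberι s) m i (p.fiberι s) := by
    refine IsPullback.of_bot (v₂₁ := p.fiberToSpecResidueField s) (v₂₂ := p) (h₃₁ := S.fromSpecResidueField s) ?_ h1.symm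
      (IsPullback.of_hasPullback p _)
    rw [h2]
    exact IsPullback.of_hasPullback (i ≫ p) _
  haveI : IsClosedImmersion m := MorphismProperty.of_isPullback sq ‹IsClosedImmersion i›
  letI : (p.fiber s).Over (Spec (CommRingCat.of (S.residueField s))) := ⟨p.fiberToSpecResidueField s⟩
  letI : ((i ≫ p).fiber s).Over (Spec (CommRingCat.of (S.residueField s))) := ⟨(i ≫ p).fiberToSpecResidueField s⟩
  haveI : IsProper ((p.fiber s) ↘ Spec (CommRingCat.of (S.residueField s))) := isProper_fibre p s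
  haveI := FlatBC6.isIso_bc0_affine sq hM
  show Curv2.euler (S.residueField s) (p.fiber s) ((Scheme.Modules.pullback (p.fiberι s)).obj ((Coh.push i).obj M)) = _
  rw [CurveCohLib.euler_congr (k := S.residueField s) (asIso (CohBC.bc0 i (p.fiberι s) m ((i ≫ p).fiberι s) sq.w M)),
    IntNum.euler_push (S.residueField s) m h2 (QCoh.isQCoh_pullback _ hM)]

end Groth.Agent.HilbFib
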