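import Groth.Agent.HilbFib.Bc0
import Groth.Agent.CohPullLib.PushStratum
import Groth.Agent.MorLib.MonoSpec
import Groth.Agent.AVTheta8.Fibre
import Groth.Agent.RGLib.Lim8RelAmple
import Groth.Agent.KZ.LFRes
import Groth.Agent.NormX.RelVanishing
import Groth.Agent.ExistEasy.PP.HatLemmas
import Groth.Agent.FlatBC5.Basic
import Groth.Agent.FlatTwist.Main
import Groth.Agent.S1455
import Groth.Agent.S4381

/-!
# Uniform base change for large twists of a coherent module over a Noetherian base
-/

set_option autoImplicit false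
set_option backward.isDefEq.respectTransparency false
set_option backward.isDefEq.respectTransparency.types false
set_option linter.style.haveILetI false
set_option maxRecDepth 4000
set_option maxHeartbeats 800000

universe u

open CategoryTheory CategoryTheory.Limits AlgebraicGeometry TopologicalSpace Opposite
open scoped TensorProduct

noncomputable section

namespace Groth.Agent.HilbFib

open Groth.Agent.QCoh

variable {X S : Scheme.{u}}

theorem subsingleton_fiberH_baseChange {X' S' : Scheme.{u}} {f : X ⟶ S} [IsProper f] {q : X' ⟶ S'} {g : S' ⟶ S}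
    {h : X' ⟶ X} (hsq : IsPullback h q f g) {G : X.Modules} (hG : Coh.IsQCoh G) (t : S') (p : ℕ) :
    Subsingleton (CohIII.fiberH q ((Scheme.Modules.pullback h).obj G) t p) ↔
      Subsingleton (CohIII.fiberH f G (g t) p) := by
  let α : S.residueField (g t) ⟶ S'.residueField t := g.residueFieldMap t
  have hα : Spec.map α ≫ S.fromSpecResidueField (g t) = S'.fromSpecResidueField t ≫ g :=
    g.SpecMap_residueFieldMap_fromSpecResidueField t
  letI : Algebra (S.residueField (g t)) (S'.residueField t) := α.hom.toAlgebra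
  letI : (f.fiber (g t)).Over (Spec (CommRingCat.of (S.residueField (g t)))) := ⟨f.fiberToSpecResidueField (g t)⟩
  have sq : IsPullback (q.fiberι t ≫ h) (q.fiberToSpecResidueField t) f (Spec.map α ≫ S.fromSpecResidueField (g t)) := by
    rw [hα]
    exact (IsPullback.of_hasPullback q (S'.fromSpecResidueField t)).paste_horiz hsq
  let m : q.fiber t ⟶ f.fiber (g t) :=
    pullback.lift (q.fiberι t ≫ h) (q.fiberToSpecResidueField t ≫ Spec.map α) (by rw [sq.w, Category.assoc])
  have hm : m ≫ f.fiberι (g t) = q.fiberι t ≫ h := pullback.lift_fst _ _ _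
  letI : (q.fiber t).Over (Spec (CommRingCat.of (S'.residueField t))) := ⟨q.fiberToSpecResidueField t⟩
  have hpb : IsPullback m (q.fiber t ↘ Spec (CommRingCat.of (S'.residueField t)))
      (f.fiber (g t) ↘ Spec (CommRingCat.of (S.residueField (g t))))
      (Spec.map (CommRingCat.ofHom (algebraMap (S.residueField (g t)) (S'.residueField t)))) := by
    refine IsPullback.of_right ?_ (pullback.lift_snd _ _ _) (IsPullback.of_hasPullback f _)
    rw [show m ≫ pullback.fst f (S.fromSpecResidueField (g t)) = q.fiberι t ≫ h from pullback.lift_fst _ _ _]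
    exact sq
  haveI : IsProper (f.fiber (g t) ↘ Spec (CommRingCat.of (S.residueField (g t)))) := isProper_fibre f (g t)
  haveI : CompactSpace (f.fiber (g t)) :=
    QuasiCompact.compactSpace_of_compactSpace (f.fiber (g t) ↘ Spec (CommRingCat.of (S.residueField (g t))))
  haveI : QuasiSeparatedSpace (f.fiber (g t)) :=
    quasiSeparatedSpace_of_quasiSeparated (f.fiber (g t) ↘ Spec (CommRingCat.of (S.residueField (g t))))
  haveI hGs : Coh.IsQCoh ((Scheme.Modules.pullback (f.fiberι (g t))).obj G) := isQCoh_pullback _ hG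
  obtain ⟨e⟩ := S0034.result (S.residueField (g t)) (S'.residueField t) (f.fiber (g t)) (q.fiber t) m hpb
    ((Scheme.Modules.pullback (f.fiberι (g t))).obj G) p
  let eM := (Scheme.Modules.pullbackComp m (f.fiberι (g t))).app G ≪≫ (Scheme.Modules.pullbackCongr hm).app G ≪≫
    ((Scheme.Modules.pullbackComp (q.fiberι t) h).app G).symm
  let e' : CohIII.fiberH q ((Scheme.Modules.pullback h).obj G) t p ≃
      (S'.residueField t) ⊗[S.residueField (g t)] Coh.HH (f.fiber (g t))
        ((Scheme.Modules.pullback (f.fiberι (g t))).obj G) p :=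
    (e.trans (mapLinEquiv (A := S'.residueField t) eM p)).symm.toEquiv
  show _ ↔ Subsingleton (Coh.HH (f.fiber (g t)) ((Scheme.Modules.pullback (f.fiberι (g t))).obj G) p)
  constructor
  · intro hs
    haveI := e'.symm.subsingleton
    by_contra hn
    rw [not_subsingleton_iff_nontrivial] at hn
    exact false_of_nontrivial_of_subsingleton ((S'.residueField t) ⊗[S.residueField (g t)]
      Coh.HH (f.fiber (g t)) ((Scheme.Modules.pullback (f.fiberι (g t))).obj G) p)
  · intro hs
    exact e'.subsingleton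

/-- The vanishing of the higher direct images gives the vanishing of the higher cohomology of the fibres. -/
theorem vanAt_succ_of_isZero_Rpush {P S : Scheme.{u}} {f : P ⟶ S} [IsProper f] [LocallyOfFinitePresentation f]
    {F : P.Modules} [HasInjectiveResolutions P.Modules] (hF : Coh.IsQCoh F) (hfp : CohB1.IsFP F)
    (hfl : FlatMod.IsFlatOver f F) (h : ∀ q : ℕ, IsZero ((Coh.Rpush f (q + 1)).obj F)) (p : ℕ) (y : S) :
    CohPullLib.VanAt f F (p + 1) y := by
  obtain ⟨V, hV, Q, hy, -, hQ⟩ :=
    CohPullLib.exists_isModel_nhd (f := f) hF hfp hfl (show y ∈ (⊤ : S.Opens) from trivial)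
  have hA : ∀ q : ℤ, q < 0 → Subsingleton ((CohIII.TFun Q q).obj (ModuleCat.of Γ(S, V) Γ(S, V))) := fun q hq => by
    obtain ⟨n, rfl⟩ : ∃ n : ℕ, q = -((n + 1 : ℕ) : ℤ) := ⟨q.natAbs - 1, by lia⟩
    obtain ⟨l⟩ := hQ.nonempty_sections hF (n + 1)
    haveI : Subsingleton Γ((Coh.Rpush f (n + 1)).obj F, V) :=
      AVTheta8.vanAt_of_isZero_Rpush.subsingleton_of_isZero_mod (h n) V
    haveI : Subsingleton (Q.homology (-((n + 1 : ℕ) : ℤ))) := l.symm.toEquiv.subsingleton
    exact (FlatCxLib.tUnitIso (P := Q) (-((n + 1 : ℕ) : ℤ))).toLinearEquiv.toEquiv.subsingleton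
  obtain ⟨c, hc⟩ := hQ.2.2.1
  have key : ∀ (n : ℕ) (q : ℤ), q < c + n → q < 0 → ∀ M, IsZero ((CohIII.TFun Q q).obj M) := by
    intro n
    induction n with
    | zero => exact fun q hq _ M => AVTheta8.vanAt_of_isZero_Rpush.isZero_T_of_isZero_X Q (hc q (by omega)) M
    | succ n ih =>
      intro q hq hq0 M
      have hm : (CohIII.TFun Q (q - 1)).PreservesMonomorphisms :=
        ⟨fun {A B} g _ => ⟨fun _ _ _ => (ih (q - 1) (by omega) (by omega) A).eq_of_tgt _ _⟩⟩
      have he := (FlatCxLib.preservesEpi_iff_preservesMono hQ.flat (show q - 1 + 1 = q by lia)).2 hm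
      haveI := hA q hq0
      haveI : Subsingleton ((CohIII.TFun Q q).obj M) :=
        (CohPullLib.bijective_tM_of_preservesEpi hQ.flat he M).2.subsingleton
      exact ModuleCat.isZero_of_subsingleton _
  exact ⟨V, hV, Q, hy, hQ, fun M => key ((-((p + 1 : ℕ) : ℤ)) - c).natAbs.succ _ (by omega) (by omega) M⟩

variable {R : Type u} [CommRing R] [IsNoetherianRing R] (f : X ⟶ Spec (CommRingCat.of R)) [IsProper f]
  {L : X.Modules} {G : X.Modules}

/-- Eventual base change along an immersion. -/
theorem exists_goodBC_immersion (hamp : RelAmple.IsRelAmple f L) (hG : Coh.IsCoh G) {Z : Scheme.{u}}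
    (j : Z ⟶ Spec (CommRingCat.of R)) [IsImmersion j] [CompactSpace Z] :
    ∃ N : ℕ, ∀ n, N ≤ n → GoodBC f (tw G L n) j := by
  classical
  have hLi := AmpleX.isInvertible_of_isRelAmple hamp
  have hloc : ∀ z : Z, ∃ (U : Z.Opens) (_ : z ∈ U) (N : ℕ), ∀ n, N ≤ n → GoodBC f (tw G L n) (U.ι ≫ j) := by
    intro z
    have hlc : IsLocallyClosed (Set.range j) := j.isLocallyClosed_range
    obtain ⟨_, ⟨g, rfl⟩, hzg, hgU⟩ := PrimeSpectrum.isTopologicalBasis_basic_opens.exists_subset_of_mem_open
      (subset_coborder ⟨z, rfl⟩ : (j z : PrimeSpectrum R) ∈ coborder (Set.range j)) hlc.isOpen_coborder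
    let A := Localization.Away g
    let a : Spec (CommRingCat.of A) ⟶ Spec (CommRingCat.of R) := Spec.map (CommRingCat.ofHom (algebraMap R A))
    haveI : IsOpenImmersion a := IsOpenImmersion.of_isLocalization g
    have hra : Set.range a = (PrimeSpectrum.basicOpen g : Set (PrimeSpectrum R)) :=
      PrimeSpectrum.localization_away_comap_range A g
    haveI : IsImmersion (pullback.snd j a) := MorphismProperty.pullback_snd (P := @IsImmersion) j a ‹_›
    have hcl : IsClosed (Set.range (pullback.snd j a)) := by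
      rw [AlgebraicGeometry.Scheme.Pullback.range_snd]
      have h1 : closure (Set.range j) ∩ Set.range a ⊆ Set.range j := by
        intro x hx
        exact (closure_inter_coborder (s := Set.range j)).subset ⟨hx.1, hgU (hra.le hx.2)⟩
      have h2 : a ⁻¹' Set.range j = a ⁻¹' closure (Set.range j) := Set.Subset.antisymm
        (Set.preimage_mono subset_closure) fun x hx => h1 ⟨hx, ⟨x, rfl⟩⟩
      rw [h2]
      exact isClosed_closure.preimage a.continuous
    haveI : IsClosedImmersion (pullback.snd j a) := IsClosedImmersion.of_isPreimmersion _ hcl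
    obtain ⟨J, e, he⟩ := IsClosedImmersion.Spec_iff.1 ‹IsClosedImmersion (pullback.snd j a)›
    letI : (pullback f a).Over (Spec (CommRingCat.of A)) := ⟨pullback.snd f a⟩
    haveI : IsProper ((pullback f a) ↘ Spec (CommRingCat.of A)) :=
      MorphismProperty.pullback_snd (P := @IsProper) _ _ ‹IsProper f›
    have sqa : IsPullback (pullback.fst f a) ((pullback f a) ↘ Spec (CommRingCat.of A)) f a :=
      IsPullback.of_hasPullback f a
    have hGa : Coh.IsCoh ((Scheme.Modules.pullback (pullback.fst f a)).obj G) :=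
      ⟨QCoh.isQCoh_pullback _ hG.1, QCoh.isFT_pullback _ hG.1 hG.2⟩
    obtain ⟨N, hN⟩ := exists_goodBC_quot (R := A) ((S4381.result _ _).1 (RGLib.Lim8.isRelAmple_of_isPullback sqa hamp))
      hGa J
    let U : Z.Opens := (pullback.fst j a).opensRange
    let eU := IsOpenImmersion.isoOfRangeEq U.ι (pullback.fst j a) (by rw [Scheme.Opens.range_ι]; rfl)
    have heq : (eU.hom ≫ e.hom) ≫ Spec.map (CommRingCat.ofHom (Ideal.Quotient.mk J)) ≫ a = U.ι ≫ j := by
      rw [Category.assoc, ← Category.assoc e.hom, ← he, ← pullback.condition, ← Category.assoc,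
        IsOpenImmersion.isoOfRangeEq_hom_fac]
    refine ⟨U, ?_, N, fun n hn => ?_⟩
    · show z ∈ Set.range (pullback.fst j a)
      rw [IsOpenImmersion.range_pullbackFst]
      show j z ∈ Set.range a
      rw [hra]; exact hzg
    · have hq : Coh.IsQCoh (tw G L n) := isQCoh_tw hG.1 hLi n
      have h1 : GoodBC f (tw G L n) a := GoodBC.of_flat f hq a
      have h2 : GoodBC f (tw G L n) (Spec.map (CommRingCat.ofHom (Ideal.Quotient.mk J)) ≫ a) :=
        GoodBC.comp hq sqa h1 (GoodBC.of_iso (tw_pullback (pullback.fst f a) G L n).some.symm (hN n hn))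
      have sq2 := IsPullback.of_hasPullback f (Spec.map (CommRingCat.ofHom (Ideal.Quotient.mk J)) ≫ a)
      haveI : IsProper (pullback.snd f (Spec.map (CommRingCat.ofHom (Ideal.Quotient.mk J)) ≫ a)) :=
        MorphismProperty.pullback_snd (P := @IsProper) _ _ ‹IsProper f›
      rw [← heq]
      exact GoodBC.comp hq sq2 h2 (GoodBC.of_flat _ (QCoh.isQCoh_pullback _ hq) _)
  choose U hU N hN using hloc
  obtain ⟨T, hT⟩ := (isCompact_univ (X := Z)).elim_finite_subcover (fun z => (U z : Set Z))
    (fun z => (U z).isOpen) fun z _ => Set.mem_iUnion.2 ⟨z, hU z⟩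
  refine ⟨T.sup N, fun n hn Y g' f' hsq => isIso_of_pullback_cover _ fun z => ?_⟩
  obtain ⟨w, hw, hzw⟩ := Set.mem_iUnion₂.1 (hT (Set.mem_univ z))
  refine ⟨U w, hzw, ?_⟩
  haveI : IsProper f' := MorphismProperty.of_isPullback (P := @IsProper) hsq ‹_›
  have sq2 := IsPullback.of_hasPullback f' (U w).ι
  exact isIso_pullback_bc0 hsq.w sq2.w rfl rfl (sq2.paste_horiz hsq).w
    (hN w n ((Finset.le_sup (f := N) hw).trans hn) _ _ (sq2.paste_horiz hsq))
    (GoodBC.of_flat f' (QCoh.isQCoh_pullback _ (isQCoh_tw hG.1 hLi n)) (U w).ι _ _ sq2)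

/-- Points of a scheme with values in a field lift along an immersion whose image contains them. -/
theorem exists_lift_field {Z S : Scheme.{u}} (j : Z ⟶ S) [IsImmersion j] {K : Type u} [Field K]
    (k : Spec (CommRingCat.of K) ⟶ S) (h : k (IsLocalRing.closedPoint K) ∈ Set.range j) :
    ∃ l : Spec (CommRingCat.of K) ⟶ Z, l ≫ j = k := by
  obtain ⟨⟨s, α⟩, rfl⟩ := (Scheme.SpecToEquivOfField K S).symm.surjective k
  change ∃ l, l ≫ j = Spec.map α ≫ S.fromSpecResidueField s
  obtain ⟨z, hz⟩ := h
  have hs : (Spec.map α ≫ S.fromSpecResidueField s) (IsLocalRing.closedPoint K) = s := by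
    rw [Scheme.Hom.comp_apply, Scheme.fromSpecResidueField_apply]
  obtain rfl : j z = s := hz.trans hs
  haveI := MorLib.MonoSpec.isIso_specMap_residueFieldMap j z
  refine ⟨(Spec.map α ≫ inv (Spec.map (j.residueFieldMap z))) ≫ Z.fromSpecResidueField z, ?_⟩
  rw [Category.assoc, Category.assoc, ← j.SpecMap_residueFieldMap_fromSpecResidueField z, IsIso.inv_hom_id_assoc]

theorem isQCoh_twpull {Y : Scheme.{u}} (g : Y ⟶ X) (hL : PicF.IsInvertible L) (hG : Coh.IsQCoh G) (n : ℕ) :
    Coh.IsQCoh ((Scheme.Modules.pullback g).obj (tw G L n)) :=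
  QCoh.isQCoh_pullback g (isQCoh_tw hG hL n)

/-- The twisted module on a base change of a flat pullback is flat. -/
theorem isFlatOver_twpull {Y T : Scheme.{u}} {g : Y ⟶ X} {q : Y ⟶ T} [IsProper q] (hL : PicF.IsInvertible L)
    (hG : Coh.IsQCoh G) (hfl : FlatMod.IsFlatOver q ((Scheme.Modules.pullback g).obj G)) (n : ℕ) :
    FlatMod.IsFlatOver q ((Scheme.Modules.pullback g).obj (tw G L n)) := by
  refine QCoh.isFlatOver_of_iso (tw_pullback g G L n).some.symm
    (isQCoh_tw (QCoh.isQCoh_pullback g hG) (PicClLib.isInvertible_pullback g hL) n) ?_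
  exact FlatTwist.isFlatOver_tensor q (QCoh.isQCoh_pullback g hG) hfl
    (InvX.isInvertible_tensorPow (PicClLib.isInvertible_pullback g hL) n)

/-- The uniform bound: beyond it the higher cohomology of every fibre vanishes, sections commute with every field
valued point, and the Hilbert functions of the fibres take finitely many values. -/
theorem exists_uniform (hamp : RelAmple.IsRelAmple f L) (hG : Coh.IsCoh G) :
    ∃ N : ℕ, (∀ m, N ≤ m → ∀ s p, Subsingleton (CohIII.fiberH f (tw G L m) s (p + 1))) ∧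
      (∀ m, N ≤ m → ∀ (K : Type u) [Field K] (k : Spec (CommRingCat.of K) ⟶ Spec (CommRingCat.of R)),
        GoodBC f (tw G L m) k) ∧
      (Set.range fun (s : Spec (CommRingCat.of R)) (m : ℕ) => χ f (tw G L m) s).Finite ∧
      ∀ (K : Type u) [Field K] (k : Spec (CommRingCat.of K) ⟶ Spec (CommRingCat.of R))
        {Y : Scheme.{u}} (g' : Y ⟶ X) (f' : Y ⟶ Spec (CommRingCat.of K)) (_ : IsPullback g' f' f k),
        FlatMod.IsFlatOver f' ((Scheme.Modules.pullback g').obj G) := by
  classical
  haveI : IsNoetherian (Spec (CommRingCat.of R)) := {}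
  haveI : IsLocallyNoetherian X := LocallyOfFiniteType.isLocallyNoetherian f
  haveI : LocallyOfFinitePresentation f := inferInstance
  have hLi := AmpleX.isInvertible_of_isRelAmple hamp
  have hfp := KZ.LFRes.isFP_of_isCoh hG
  obtain ⟨t, I, hI, hlast, h0, hfg, hflat⟩ := S1455.result f G hG.1 hfp
  let Z : Fin t → Scheme.{u} := fun i => ((I i.castSucc).subschemeι ⁻¹ᵁ (I i.succ).support.compl).toScheme
  let g : (i : Fin t) → (Z i ⟶ Spec (CommRingCat.of R)) := fun i =>
    ((I i.castSucc).subschemeι ⁻¹ᵁ (I i.succ).support.compl).ι ≫ (I i.castSucc).subschemeι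
  haveI : ∀ i, IsImmersion (g i) := fun i => inferInstance
  haveI : ∀ i, IsLocallyNoetherian (Z i) := fun i => LocallyOfFiniteType.isLocallyNoetherian (g i)
  haveI : ∀ i, CompactSpace (Z i) := fun i => by
    haveI : NoetherianSpace (Z i) := (g i).isEmbedding.isInducing.noetherianSpace
    infer_instance
  have hcov : ∀ s : Spec (CommRingCat.of R), ∃ i, s ∈ Set.range (g i) := fun s => by
    obtain ⟨i, h1, h2⟩ : ∃ i : Fin t, s ∈ (I i.castSucc).support ∧ s ∉ (I i.succ).support := by
      by_contra! hc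
      have h : ∀ j : Fin (t + 1), s ∈ (I j).support := fun j => by
        induction j using Fin.induction with
        | zero => exact h0.ge (Set.mem_univ s)
        | succ i ih => exact hc i ih
      have h' := h (Fin.last t)
      rw [hlast, Scheme.IdealSheafData.support_top] at h'
      exact h'
    rw [← SetLike.mem_coe, ← (I i.castSucc).range_subschemeι] at h1
    obtain ⟨z, rfl⟩ := h1
    exact ⟨i, ⟨z, h2⟩, rfl⟩
  have hpiece : ∀ i, ∃ N, ∀ m, N ≤ m → GoodBC f (tw G L m) (g i) ∧
      ∀ (z : Z i) p, CohPullLib.VanAt (pullback.snd f (g i))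
        ((Scheme.Modules.pullback (pullback.fst f (g i))).obj (tw G L m)) (p + 1) z := fun i => by
    obtain ⟨N₁, hN₁⟩ := exists_goodBC_immersion f hamp hG (g i)
    let fi := pullback.snd f (g i)
    let gi := pullback.fst f (g i)
    haveI : IsProper fi := MorphismProperty.pullback_snd (P := @IsProper) _ _ ‹IsProper f›
    haveI : LocallyOfFinitePresentation fi :=
      MorphismProperty.pullback_snd (P := @LocallyOfFinitePresentation) _ _ ‹LocallyOfFinitePresentation f›
    haveI : IsLocallyNoetherian (pullback f (g i)) := LocallyOfFiniteType.isLocallyNoetherian fi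
    haveI : HasInjectiveResolutions (pullback f (g i)).Modules := KFlatLib.hasInjectiveResolutions_modules
    haveI : IsNoetherian (Z i) := {}
    have hcohi : Coh.IsCoh ((Scheme.Modules.pullback gi).obj G) :=
      ⟨QCoh.isQCoh_pullback gi hG.1, QCoh.isFT_pullback gi hG.1 hG.2⟩
    have hampi := RGLib.Lim8.isRelAmple_of_isPullback (IsPullback.of_hasPullback f (g i)) hamp
    obtain ⟨N₂, hN₂⟩ := NormX.exists_vanishing_Rpush fi hampi.2 (AmpleX.isInvertible_of_isRelAmple hampi) hcohi
    refine ⟨max N₁ N₂, fun m hm => ⟨hN₁ m ((le_max_left _ _).trans hm), fun z p => ?_⟩⟩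
    exact vanAt_succ_of_isZero_Rpush (isQCoh_twpull gi hLi hG.1 m)
      (RGLib.Lim8.isFP_pullback gi (isQCoh_tw hG.1 hLi m)
        (S7761.isFP_tensor hG.1 hfp (InvX.isInvertible_tensorPow hLi m)))
      (isFlatOver_twpull hLi hG.1 (hflat i) m)
      (fun q => (hN₂ m ((le_max_right _ _).trans hm) q).of_iso
        ((Coh.Rpush fi (q + 1)).mapIso (tw_pullback gi G L m).some)) p z
  choose N hN using hpiece
  refine ⟨Finset.univ.sup N, fun m hm s p => ?_, fun m hm K _ k => ?_, ?_, fun K _ k Y g' f' hsq => ?_⟩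
  · obtain ⟨i, z, rfl⟩ := hcov s
    obtain ⟨-, hvan⟩ := hN i m ((Finset.le_sup (Finset.mem_univ i)).trans hm)
    haveI : IsProper (pullback.snd f (g i)) := MorphismProperty.pullback_snd (P := @IsProper) _ _ ‹IsProper f›
    exact (subsingleton_fiberH_baseChange (IsPullback.of_hasPullback f (g i)) (isQCoh_tw hG.1 hLi m) z (p + 1)).1
      (CohPullLib.subsingleton_of_vanAt (isQCoh_twpull _ hLi hG.1 m) (hvan z p))
  · obtain ⟨i, hi⟩ := hcov (k (IsLocalRing.closedPoint K))
    obtain ⟨l, rfl⟩ := exists_lift_field (g i) k hi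
    obtain ⟨hgood, hvan⟩ := hN i m ((Finset.le_sup (Finset.mem_univ i)).trans hm)
    haveI : IsProper (pullback.snd f (g i)) := MorphismProperty.pullback_snd (P := @IsProper) _ _ ‹IsProper f›
    haveI : LocallyOfFinitePresentation (pullback.snd f (g i)) :=
      MorphismProperty.pullback_snd (P := @LocallyOfFinitePresentation) _ _ ‹LocallyOfFinitePresentation f›
    exact GoodBC.comp (isQCoh_tw hG.1 hLi m) (IsPullback.of_hasPullback f (g i)) hgood fun Y g' f' hsq =>
      CohPullLib.isIso_bc0_of_exchAt hsq (isQCoh_twpull _ hLi hG.1 m) fun z => (hvan (l z) 0).exchAt_pred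
  · refine (Set.finite_iUnion fun i => ?_).subset (?_ : _ ⊆ ⋃ i : Fin t,
      Set.range fun (z : Z i) (m : ℕ) => χ f (tw G L m) (g i z))
    · haveI : IsProper (pullback.snd f (g i)) := MorphismProperty.pullback_snd (P := @IsProper) _ _ ‹IsProper f›
      haveI : LocallyOfFinitePresentation (pullback.snd f (g i)) :=
        MorphismProperty.pullback_snd (P := @LocallyOfFinitePresentation) _ _ ‹LocallyOfFinitePresentation f›
      have hlc := isLocallyConstant_χtw (pullback.snd f (g i))
        (RGLib.Lim8.isFP_pullback (pullback.fst f (g i)) hG.1 hfp) (hflat i)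
        (PicClLib.isInvertible_pullback (pullback.fst f (g i)) hLi)
      convert hlc.range_finite using 3 with z
      funext m
      exact ((χ_congr _ (tw_pullback _ G L m).some.symm z).trans
        (χ_baseChange (IsPullback.of_hasPullback f (g i)) (isQCoh_tw hG.1 hLi m) z)).symm
    · rintro _ ⟨s, rfl⟩
      obtain ⟨i, z, rfl⟩ := hcov s
      exact Set.mem_iUnion.2 ⟨i, z, rfl⟩
  · obtain ⟨i, hi⟩ := hcov (k (IsLocalRing.closedPoint K))
    obtain ⟨l, rfl⟩ := exists_lift_field (g i) k hi
    let m : Y ⟶ pullback f (g i) := pullback.lift g' (f' ≫ l) (by rw [Category.assoc]; exact hsq.w)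
    have hm : m ≫ pullback.fst f (g i) = g' := pullback.lift_fst _ _ _
    have sq : IsPullback m f' (pullback.snd f (g i)) l :=
      IsPullback.of_right (by rw [hm]; exact hsq) (pullback.lift_snd _ _ _) (IsPullback.of_hasPullback f (g i))
    refine QCoh.isFlatOver_of_iso ((Scheme.Modules.pullbackComp m (pullback.fst f (g i))).app G ≪≫
      (Scheme.Modules.pullbackCongr hm).app G) (QCoh.isQCoh_pullback m (QCoh.isQCoh_pullback _ hG.1)) ?_
    exact FlatBC5.isFlatOver_of_baseChange sq (QCoh.isQCoh_pullback _ hG.1) (hflat i)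

/-- A flat family: base change holds and the direct images are locally free of the ranks of the fibres. -/
theorem of_flat_family [LocallyOfFinitePresentation f] (hamp : RelAmple.IsRelAmple f L) (hG : Coh.IsCoh G) {m : ℕ}
    (hvan : ∀ s p, Subsingleton (CohIII.fiberH f (tw G L m) s (p + 1)))
    (hgood : ∀ (K : Type u) [Field K] (k : Spec (CommRingCat.of K) ⟶ Spec (CommRingCat.of R)),
      GoodBC f (tw G L m) k)
    {T : Scheme.{u}} (v : T ⟶ Spec (CommRingCat.of R))
    (hfl : FlatMod.IsFlatOver (pullback.snd f v) ((Scheme.Modules.pullback (pullback.fst f v)).obj G)) :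
    (∀ t, 0 ≤ χ f (tw G L m) (v t)) ∧ ∀ r : ℕ, (∀ t, χ f (tw G L m) (v t) = r) →
      FlatMod.IsFinLocFreeOfRank r ((Scheme.Modules.pullback v).obj ((Scheme.Modules.pushforward f).obj (tw G L m))) := by
  haveI : IsLocallyNoetherian X := LocallyOfFiniteType.isLocallyNoetherian f
  have hLi := AmpleX.isInvertible_of_isRelAmple hamp
  let q := pullback.snd f v
  let h := pullback.fst f v
  have sq : IsPullback h q f v := IsPullback.of_hasPullback f v
  haveI : IsProper q := MorphismProperty.pullback_snd (P := @IsProper) _ _ ‹IsProper f›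
  haveI : LocallyOfFinitePresentation q :=
    MorphismProperty.pullback_snd (P := @LocallyOfFinitePresentation) _ _ ‹LocallyOfFinitePresentation f›
  haveI : HasInjectiveResolutions (pullback f v).Modules := KFlatLib.hasInjectiveResolutions_modules
  let G' := (Scheme.Modules.pullback h).obj (tw G L m)
  have hq' : Coh.IsQCoh G' := isQCoh_twpull h hLi hG.1 m
  have hfp' : CohB1.IsFP G' := RGLib.Lim8.isFP_pullback h (isQCoh_tw hG.1 hLi m)
    (S7761.isFP_tensor hG.1 (KZ.LFRes.isFP_of_isCoh hG) (InvX.isInvertible_tensorPow hLi m))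
  have hfl' : FlatMod.IsFlatOver q G' := isFlatOver_twpull hLi hG.1 hfl m
  have hv : ∀ t p, Subsingleton (CohIII.fiberH q G' t (p + 1)) := fun t p =>
    (subsingleton_fiberH_baseChange sq (isQCoh_tw hG.1 hLi m) t (p + 1)).2 (hvan (v t) p)
  have hex : ∀ t, CohPullLib.ExchAt q G' 0 t := fun t =>
    (CohPullLib.vanAt_of_subsingleton hq' hfp' hfl' 1 (hv t 0)).exchAt_pred
  have hχ : ∀ t, (CohIII.fiberRank q G' 0 t : ℤ) = χ f (tw G L m) (v t) := fun t => by
    rw [← χ_baseChange sq (isQCoh_tw hG.1 hLi m) t]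
    show _ = ∑ᶠ i : ℕ, (-1 : ℤ) ^ i * (CohIII.fiberRank q G' i t : ℤ)
    rw [finsum_eq_single _ 0 fun i hi => ?_]
    · simp
    · obtain ⟨p, rfl⟩ := Nat.exists_eq_add_one_of_ne_zero hi
      haveI := hv t p
      rw [show CohIII.fiberRank q G' (p + 1) t = 0 from Module.finrank_zero_of_subsingleton]
      simp
  refine ⟨fun t => by rw [← hχ t]; exact Int.natCast_nonneg _, fun r hr => ?_⟩
  have hlf := CohPullLib.isFinLocFree_push_of_exchAt hq' hfp' hfl' hex
  have hqp := QCoh.isQCoh_pushforward q hq'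
  have hrk : FlatMod.IsFinLocFreeOfRank r ((Scheme.Modules.pushforward q).obj G') := by
    refine CohPullLib.isFinLocFreeOfRank_of_sections hqp fun t => ?_
    obtain ⟨W, hW, P, htW, hP, hepi⟩ := hex t
    obtain ⟨h1, h2, h3⟩ := CohPullLib.sections_push_of_preservesEpi hq' hP hepi
    refine ⟨W, hW, htW, h1, h2, fun Q => ?_⟩
    obtain ⟨w, hw, rfl⟩ := QCoh.exists_point hW Q
    rw [h3 w hw]
    exact_mod_cast (hχ w).trans (hr w)
  have hp := ExistEasy.isCoh_pushforward_proper f (AmpleVan.isCoh_tensor hG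
    (AmpleVan.isCoh_invertible (InvX.isInvertible_tensorPow hLi m)))
  haveI : IsIso (CohBC.bc0 f v q h sq.w (tw G L m)) := by
    refine isIso_of_fibres (QCoh.isQCoh_pullback v hp.1) (QCoh.isFT_pullback v hp.1 hp.2) hlf hqp _ fun K _ k => ?_
    have sq2 := IsPullback.of_hasPullback q k
    exact isIso_pullback_bc0 sq.w sq2.w rfl rfl (sq2.paste_horiz sq).w (hgood K (k ≫ v) _ _ (sq2.paste_horiz sq))
      (CohPullLib.isIso_bc0_of_exchAt sq2 hq' fun z => hex (k z))
  exact (ConsPropLib.isFinLocFreeOfRank_iso (asIso (CohBC.bc0 f v q h sq.w (tw G L m)))).2 hrk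

end Groth.Agent.HilbFib
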