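import Groth.Agent.HilbFib.Closed
import Groth.Agent.FlatTwist.Main
import Groth.Agent.QCoh.LocFree
import Groth.Agent.S0034
import Groth.Agent.S0002
import Groth.Agent.FlatBC5.Basic
import Mathlib.RingTheory.LocalProperties.Reduced

/-!
# Flatness from the Euler characteristics at the closed and the generic points of a reduced local base
-/

set_option autoImplicit false
set_option backward.isDefEq.respectTransparency false
set_option backward.isDefEq.respectTransparency.types false
set_option linter.style.haveILetI false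
set_option maxHeartbeats 800000

universe u

open CategoryTheory CategoryTheory.Limits AlgebraicGeometry TopologicalSpace Opposite
open scoped TensorProduct

noncomputable section

namespace Groth.Agent.HilbFib

variable {A : Type u} [CommRing A]

/-- The residue field of a minimal prime of a reduced ring is flat. -/
theorem flat_residueField_of_minimal [IsReduced A] {p : Ideal A} [p.IsPrime] (hp : p ∈ minimalPrimes A) :
    Module.Flat A p.ResidueField := by
  have hm : IsLocalRing.maximalIdeal (Localization.AtPrime p) = ⊥ := by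
    refine le_antisymm (fun x hx => ?_) bot_le
    refine Submodule.mem_bot (R := Localization.AtPrime p) |>.2 (IsNilpotent.eq_zero ?_)
    rw [← mem_nilradical, nilradical_eq_sInf, Ideal.mem_sInf]
    intro q hq
    obtain ⟨h1, h2⟩ := ((IsLocalization.AtPrime.orderIsoOfPrime (Localization.AtPrime p) p) ⟨q, hq⟩).2
    have e : q.under A = p :=
      le_antisymm h2 (hp.2 ⟨h1, bot_le⟩ h2)
    have hq' : q = IsLocalRing.maximalIdeal (Localization.AtPrime p) := by
      rw [← IsLocalization.map_comap p.primeCompl (Localization.AtPrime p) q, e,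
        Localization.AtPrime.map_eq_maximalIdeal]
    rwa [hq']
  let e : Localization.AtPrime p →ₗ[A] p.ResidueField :=
    (IsScalarTower.toAlgHom A (Localization.AtPrime p) p.ResidueField).toLinearMap
  have he : Function.Bijective e := ⟨(RingHom.injective_iff_ker_eq_bot
    (IsLocalRing.residue (Localization.AtPrime p))).2
    ((IsLocalRing.ker_residue).trans hm), IsLocalRing.residue_surjective⟩
  haveI : Module.Flat A (Localization.AtPrime p) := IsLocalization.flat _ p.primeCompl
  exact Module.Flat.of_linearEquiv (LinearEquiv.ofBijective e he).symm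

/-- A finite module over a reduced local ring with the same fibre rank at the closed point and at all minimal primes
is free. -/
theorem free_of_fibre_ranks [IsLocalRing A] [IsReduced A] (H : Type u) [AddCommGroup H] [Module A H]
    [Module.Finite A H]
    (h : ∀ p ∈ minimalPrimes A, ∃ (K : Type u) (_ : Field K) (_ : Algebra A K),
      RingHom.ker (algebraMap A K) = p ∧ Module.finrank K (K ⊗[A] H) =
        Module.finrank (A ⧸ IsLocalRing.maximalIdeal A)
          (H ⧸ IsLocalRing.maximalIdeal A • (⊤ : Submodule A H))) :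
    Module.Free A H := by
  classical
  set m := IsLocalRing.maximalIdeal A
  let r := Module.finrank (A ⧸ m) (H ⧸ m • (⊤ : Submodule A H))
  haveI : Module.Finite (A ⧸ m) (H ⧸ m • (⊤ : Submodule A H)) := Module.Finite.of_restrictScalars_finite A _ _
  letI : Field (A ⧸ m) := Ideal.Quotient.field m
  let b := Module.finBasis (A ⧸ m) (H ⧸ m • (⊤ : Submodule A H))
  choose v hv using fun i => Submodule.mkQ_surjective (m • (⊤ : Submodule A H)) (b i)
  let l : (Fin r → A) →ₗ[A] H := Fintype.linearCombination A v
  have hspan : Submodule.span A (Set.range v) = ⊤ := by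
    refine top_le_iff.1 (Submodule.le_of_le_smul_of_le_jacobson_bot Module.Finite.fg_top
      (IsLocalRing.maximalIdeal_le_jacobson _) fun z _ => ?_)
    have hz := b.sum_repr (Submodule.Quotient.mk z)
    choose c hc using fun i => Ideal.Quotient.mk_surjective (b.repr (Submodule.Quotient.mk z) i)
    refine Submodule.mem_sup.2 ⟨∑ i, c i • v i, Submodule.sum_mem _ fun i _ =>
      Submodule.smul_mem _ _ (Submodule.subset_span ⟨i, rfl⟩), z - ∑ i, c i • v i, ?_, by abel⟩
    rw [← Submodule.Quotient.mk_eq_zero, Submodule.Quotient.mk_sub, sub_eq_zero, ← Submodule.mkQ_apply,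
      ← Submodule.mkQ_apply, map_sum]
    rw [Submodule.mkQ_apply, ← hz]
    refine Finset.sum_congr rfl fun i _ => ?_
    rw [map_smul, hv i, ← hc i]
    rfl
  have hl : Function.Surjective l := by
    rw [← LinearMap.range_eq_top, ← hspan]
    exact Fintype.range_linearCombination A v
  have hinj : Function.Injective l := by
    rw [injective_iff_map_eq_zero]
    intro x hx
    funext i
    refine IsNilpotent.eq_zero ?_
    rw [← mem_nilradical, show nilradical A = (⊥ : Ideal A).radical from rfl, ← Ideal.sInf_minimalPrimes,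
      Ideal.mem_sInf]
    intro p hp
    obtain ⟨K, _, _, hK, hr⟩ := h p hp
    have hs : Function.Surjective (l.baseChange K) := LinearMap.lTensor_surjective K hl
    have hi : Function.Injective (l.baseChange K) := by
      refine (LinearMap.injective_iff_surjective_of_finrank_eq_finrank ?_).2 hs
      rw [hr, Module.finrank_baseChange, Module.finrank_fin_fun]
    have h0 : (1 : K) ⊗ₜ[A] x = 0 := hi (by rw [LinearMap.baseChange_tmul, hx, TensorProduct.tmul_zero, map_zero])
    have h1 : algebraMap A K (x i) = 0 := by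
      have := congrArg (fun z => LinearMap.baseChange K (LinearMap.proj (R := A) (φ := fun _ : Fin r => A) i) z) h0
      simp only [LinearMap.baseChange_tmul, map_zero] at this
      have h2 := congrArg (TensorProduct.rid A K) this
      simpa [Algebra.smul_def] using h2
    rw [← hK]
    exact h1
  exact Module.Free.of_equiv (LinearEquiv.ofBijective l ⟨hinj, hl⟩)

variable {X : Scheme.{u}} [X.Over (Spec (CommRingCat.of A))] [IsProper (X ↘ Spec (CommRingCat.of A))]

/-- The fibre at a point with flat residue field. -/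
theorem χ_generic (x : Spec (CommRingCat.of A)) (hx : Module.Flat A x.asIdeal.ResidueField) {G : X.Modules}
    (hG : Coh.IsQCoh G) (hvan : ∀ q, Subsingleton (Coh.HH X G (q + 1))) :
    ∃ (K : Type u) (_ : Field K) (_ : Algebra A K), RingHom.ker (algebraMap A K) = x.asIdeal ∧
      χ (X ↘ Spec (CommRingCat.of A)) G x = (Module.finrank K (K ⊗[A] Coh.HH X G 0) : ℤ) := by
  set π := X ↘ Spec (CommRingCat.of A)
  let e := Scheme.Spec.residueFieldIso (CommRingCat.of A) x
  let α : A →+* (Spec (CommRingCat.of A)).residueField x :=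
    (CommRingCat.ofHom (algebraMap A x.asIdeal.ResidueField) ≫ e.inv).hom
  letI : Algebra A ((Spec (CommRingCat.of A)).residueField x) := α.toAlgebra
  haveI : Module.Flat A ((Spec (CommRingCat.of A)).residueField x) :=
    Module.Flat.of_linearEquiv
      (R := A) (M := x.asIdeal.ResidueField)
      (e.commRingCatIsoToRingEquiv.toAddEquiv.toLinearEquiv fun a z => by
        rw [Algebra.smul_def, Algebra.smul_def]
        show e.hom (α a * z) = _
        rw [map_mul]
        exact congrArg (· * _) (e.commRingCatIsoToRingEquiv.apply_symm_apply _))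
  refine ⟨(Spec (CommRingCat.of A)).residueField x, inferInstance, inferInstance, ?_, ?_⟩
  · ext a
    show e.commRingCatIsoToRingEquiv.symm (algebraMap A x.asIdeal.ResidueField a) = 0 ↔ _
    rw [map_eq_zero_iff _ e.commRingCatIsoToRingEquiv.symm.injective, Ideal.algebraMap_residueField_eq_zero]
  letI : (π.fiber x).Over (Spec (CommRingCat.of ((Spec (CommRingCat.of A)).residueField x))) :=
    ⟨π.fiberToSpecResidueField x⟩
  have hs : Spec.map (CommRingCat.ofHom α) = (Spec (CommRingCat.of A)).fromSpecResidueField x := by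
    show Spec.map (CommRingCat.ofHom (algebraMap A x.asIdeal.ResidueField) ≫ e.inv) = _
    rw [Spec.map_comp]
    exact Scheme.Spec.map_residueFieldIso_inv_eq_fromSpecResidueField (CommRingCat.of A) x
  have hpb : IsPullback (π.fiberι x)
      ((π.fiber x) ↘ Spec (CommRingCat.of ((Spec (CommRingCat.of A)).residueField x))) π
      (Spec.map (CommRingCat.ofHom (algebraMap A ((Spec (CommRingCat.of A)).residueField x)))) := by
    show IsPullback _ _ _ (Spec.map (CommRingCat.ofHom α))
    rw [hs]
    exact IsPullback.of_hasPullback _ _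
  haveI := hG
  haveI : CompactSpace X := QuasiCompact.compactSpace_of_compactSpace π
  haveI : QuasiSeparatedSpace X := quasiSeparatedSpace_of_quasiSeparated π
  have hH := fun i => S0034.result A ((Spec (CommRingCat.of A)).residueField x) X (π.fiber x) (π.fiberι x) hpb G i
  show (∑ᶠ i : ℕ, (-1 : ℤ) ^ i * (Module.finrank ((Spec (CommRingCat.of A)).residueField x)
    (Coh.HH (π.fiber x) ((Scheme.Modules.pullback (π.fiberι x)).obj G) i) : ℤ)) = _
  rw [finsum_eq_single _ 0 fun i hi => ?_]
  · obtain ⟨e0⟩ := hH 0
    rw [pow_zero, one_mul, e0.finrank_eq]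
  · obtain ⟨q, rfl⟩ := Nat.exists_eq_add_one_of_ne_zero hi
    obtain ⟨e1⟩ := hH (q + 1)
    haveI := hvan q
    haveI := e1.symm.toEquiv.subsingleton
    rw [Module.finrank_zero_of_subsingleton]
    simp

omit [X.Over (Spec (CommRingCat.of A))] [IsProper (X ↘ Spec (CommRingCat.of A))] in
theorem smul_push_top (f : X ⟶ Spec (CommRingCat.of A)) (G : X.Modules) (a : Γ(Spec (CommRingCat.of A), ⊤))
    (z : Γ(G, f ⁻¹ᵁ ⊤)) :
    (a • (show Γ((Coh.push f).obj G, ⊤) from z) : Γ((Coh.push f).obj G, ⊤)) =
      (show Γ((Coh.push f).obj G, ⊤) from f.app ⊤ a • z) := rfl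

/-- A module on an affine base with finite free sections is finite locally free. -/
theorem isFinLocFree_push_of_free {G : X.Modules} (hG : Coh.IsQCoh G) (hfree : Module.Free A (Coh.HH X G 0))
    (hfin : Module.Finite A (Coh.HH X G 0)) :
    FlatMod.IsFinLocFree ((Coh.push (X ↘ Spec (CommRingCat.of A))).obj G) := by
  let ρ := Coh.toGlobal (X ↘ Spec (CommRingCat.of A))
  have hN : Coh.IsQCoh ((Coh.push (X ↘ Spec (CommRingCat.of A))).obj G) :=
    QCoh.isQCoh_pushforward (X ↘ Spec (CommRingCat.of A)) hG
  let V := (moduleSpecΓFunctor (R := CommRingCat.of A)).obj ((Coh.push (X ↘ Spec (CommRingCat.of A))).obj G)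
  letI iG : Module A Γ(G, ⊤) := QCoh.secModule ρ G ⊤
  let e₁ : Γ(G, ⊤) ≃ₗ[A] Coh.HH X G 0 := QCoh.secH ρ G
  haveI := hfin
  haveI := hfree
  haveI : Module.Finite A Γ(G, ⊤) := Module.Finite.equiv e₁.symm
  haveI : Module.Free A Γ(G, ⊤) := Module.Free.of_equiv e₁.symm
  have hsm : ∀ (a : A) (z : V), (show Γ(G, ⊤) from (a • z : V)) = a • (show Γ(G, ⊤) from z) := fun a z => by
    refine (smul_push_top (X ↘ Spec (CommRingCat.of A)) G _ z).trans ?_
    show (X ↘ Spec (CommRingCat.of A)).appTop ((Scheme.ΓSpecIso (CommRingCat.of A)).inv a) • (show Γ(G, ⊤) from z) =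
      X.presheaf.map (homOfLE (le_top : (⊤ : X.Opens) ≤ ⊤)).op (ρ a) • (show Γ(G, ⊤) from z)
    rw [show (homOfLE (le_top : (⊤ : X.Opens) ≤ ⊤)).op = 𝟙 _ from rfl, CategoryTheory.Functor.map_id]
    rfl
  let s : V ≃ₗ[A] Γ(G, ⊤) :=
    { toFun := fun z => z
      invFun := fun z => z
      left_inv := fun _ => rfl
      right_inv := fun _ => rfl
      map_add' := fun _ _ => rfl
      map_smul' := hsm }
  haveI : Module.Finite A V := Module.Finite.equiv s.symm
  haveI : Module.Free A V := Module.Free.of_equiv s.symm
  exact H23.PullPush.isFinLocFree_of_iso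
    (@asIso _ _ _ _ _ ((isQuasicoherent_iff_isIso_fromTildeΓ _).1 hN))
    ((QCoh.isFinLocFree_tilde_iff V).2 ⟨inferInstance, inferInstance⟩)

/-- Flatness from the Euler characteristics of large twists at the closed point and the minimal primes. -/
theorem isFlatOver_of_χ [IsNoetherianRing A] [IsLocalRing A] [IsReduced A] {L : X.Modules}
    (hamp : RelAmple.IsRelAmple (X ↘ Spec (CommRingCat.of A)) L) (hL : CohB1.IsAmple L) {F : X.Modules}
    (hF : Coh.IsCoh F)
    (h : ∀ x : Spec (CommRingCat.of A), x.asIdeal ∈ minimalPrimes A → ∀ n,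
      χ (X ↘ Spec (CommRingCat.of A)) (tw F L n) x =
        χ (X ↘ Spec (CommRingCat.of A)) (tw F L n) (IsLocalRing.closedPoint A)) :
    FlatMod.IsFlatOver (X ↘ Spec (CommRingCat.of A)) F := by
  obtain ⟨N₁, hN₁⟩ := exists_χ_closed (A := A) hL hF
  obtain ⟨N₂, hN₂⟩ := AmpleVan.exists_vanishing (A := A) hL hF
  haveI : IsLocallyNoetherian X := LocallyOfFiniteType.isLocallyNoetherian (X ↘ Spec (CommRingCat.of A))
  refine FlatTwist.isFlatOver_of_twists _ hamp hL.1 hF.1 (max N₁ N₂) fun n hn => ?_
  have hc : Coh.IsCoh (tw F L n) :=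
    AmpleVan.isCoh_tensor hF (AmpleVan.isCoh_invertible (InvX.isInvertible_tensorPow hL.1 n))
  haveI : Module.Finite A (Coh.HH X (tw F L n) 0) := S0002.result A X (tw F L n) hc 0
  haveI : Module.Free A (Coh.HH X (tw F L n) 0) := free_of_fibre_ranks _ fun p hp => by
    haveI := hp.1.1
    let x : Spec (CommRingCat.of A) := ⟨p, hp.1.1⟩
    obtain ⟨K, iK, iA, hker, hχ⟩ := χ_generic x (flat_residueField_of_minimal hp) hc.1
      (hN₂ n ((le_max_right _ _).trans hn))
    refine ⟨K, iK, iA, hker, ?_⟩
    have := hχ.symm.trans ((h x hp n).trans (hN₁ n ((le_max_left _ _).trans hn)))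
    exact_mod_cast this
  exact isFinLocFree_push_of_free hc.1 inferInstance inferInstance

end Groth.Agent.HilbFib

namespace Groth.Agent.HilbFib

theorem flat_stalkMap_fromSpecStalk {S : Scheme.{u}} (s : S) :
    ((S.fromSpecStalk s).stalkMap (IsLocalRing.closedPoint (S.presheaf.stalk s))).hom.Flat := by
  have h : (S.fromSpecStalk s).stalkMap (IsLocalRing.closedPoint (S.presheaf.stalk s)) ≫
      (stalkClosedPointIso (S.presheaf.stalk s)).hom =
      (S.presheaf.stalkCongr (by rw [Scheme.fromSpecStalk_closedPoint]; rfl)).hom :=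
    Scheme.stalkClosedPointTo_fromSpecStalk s
  haveI : IsIso ((S.fromSpecStalk s).stalkMap (IsLocalRing.closedPoint (S.presheaf.stalk s))) := by
    refine @IsIso.of_isIso_comp_right _ _ _ _ _ _ (stalkClosedPointIso (S.presheaf.stalk s)).hom _ ?_
    rw [h]
    infer_instance
  exact RingHom.Flat.of_bijective (ConcreteCategory.bijective_of_isIso _)

end Groth.Agent.HilbFib
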