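import Groth.Agent.S7761
import Groth.Agent.CurveBC.Coh

/-!
# Euler characteristics of sheaves on the fibres of a proper morphism
-/

set_option autoImplicit false
set_option backward.isDefEq.respectTransparency false
set_option backward.isDefEq.respectTransparency.types false
set_option linter.style.haveILetI false
set_option maxHeartbeats 800000

universe u

open CategoryTheory CategoryTheory.Limits AlgebraicGeometry TopologicalSpace
open scoped Groth.Agent.H23.PicMul

noncomputable section

namespace Groth.Agent.HilbFib

variable {X S : Scheme.{u}}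

/-- The Euler characteristic of the restriction of `G` to the fibre over `s`. -/
abbrev χ (f : X ⟶ S) (G : X.Modules) (s : S) : ℤ :=
  @Curv2.euler (S.residueField s) _ (f.fiber s) ⟨f.fiberToSpecResidueField s⟩
    ((Scheme.Modules.pullback (f.fiberι s)).obj G)

theorem eulerChar_eq (f : X ⟶ S) (G : X.Modules) (s : S) : PerfAux.eulerChar f G s = χ f G s := rfl

theorem isProper_fibre (f : X ⟶ S) [IsProper f] (s : S) : IsProper (f.fiberToSpecResidueField s) :=
  MorphismProperty.pullback_snd (P := @IsProper) _ _ ‹IsProper f›

theorem χ_congr (f : X ⟶ S) [IsProper f] {G G' : X.Modules} (e : G ≅ G') (s : S) : χ f G s = χ f G' s := by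
  letI : (f.fiber s).Over (Spec (CommRingCat.of (S.residueField s))) := ⟨f.fiberToSpecResidueField s⟩
  haveI : IsProper ((f.fiber s) ↘ Spec (CommRingCat.of (S.residueField s))) := isProper_fibre f s
  exact CurveCohLib.euler_congr (k := S.residueField s) ((Scheme.Modules.pullback (f.fiberι s)).mapIso e)

/-- The Euler characteristic of the fibres does not change under base change. -/
theorem χ_baseChange {E' S' : Scheme.{u}} {f : X ⟶ S} {q : E' ⟶ S'} {g : S' ⟶ S} {h : E' ⟶ X}
    (hsq : IsPullback h q f g) [IsProper f] {G : X.Modules} (hG : Coh.IsQCoh G) (t : S') :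
    χ q ((Scheme.Modules.pullback h).obj G) t = χ f G (g t) := by
  let α : S.residueField (g t) ⟶ S'.residueField t := g.residueFieldMap t
  have hα : Spec.map α ≫ S.fromSpecResidueField (g t) = S'.fromSpecResidueField t ≫ g :=
    g.SpecMap_residueFieldMap_fromSpecResidueField t
  letI : Algebra (S.residueField (g t)) (S'.residueField t) := α.hom.toAlgebra
  letI : (q.fiber t).Over (Spec (CommRingCat.of (S'.residueField t))) := ⟨q.fiberToSpecResidueField t⟩
  letI : (f.fiber (g t)).Over (Spec (CommRingCat.of (S.residueField (g t)))) := ⟨f.fiberToSpecResidueField (g t)⟩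
  have sq : IsPullback (q.fiberι t ≫ h) (q.fiberToSpecResidueField t) f (Spec.map α ≫ S.fromSpecResidueField (g t)) := by
    rw [hα]
    exact (IsPullback.of_hasPullback q (S'.fromSpecResidueField t)).paste_horiz hsq
  let m : q.fiber t ⟶ f.fiber (g t) :=
    pullback.lift (q.fiberι t ≫ h) (q.fiberToSpecResidueField t ≫ Spec.map α) (by rw [sq.w, Category.assoc])
  have hm : m ≫ f.fiberι (g t) = q.fiberι t ≫ h := pullback.lift_fst _ _ _
  have hpb : IsPullback m (q.fiber t ↘ Spec (CommRingCat.of (S'.residueField t)))
      (f.fiber (g t) ↘ Spec (CommRingCat.of (S.residueField (g t))))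
      (Spec.map (CommRingCat.ofHom (algebraMap (S.residueField (g t)) (S'.residueField t)))) := by
    refine IsPullback.of_right ?_ (pullback.lift_snd _ _ _) (IsPullback.of_hasPullback f _)
    rw [show m ≫ pullback.fst f (S.fromSpecResidueField (g t)) = q.fiberι t ≫ h from pullback.lift_fst _ _ _]
    exact sq
  haveI : IsProper q := MorphismProperty.of_isPullback (P := @IsProper) hsq ‹IsProper f›
  haveI : IsProper (f.fiber (g t) ↘ Spec (CommRingCat.of (S.residueField (g t)))) := isProper_fibre f (g t)
  haveI : IsProper (q.fiber t ↘ Spec (CommRingCat.of (S'.residueField t))) := isProper_fibre q t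
  haveI : IsNoetherian (f.fiber (g t)) :=
    CurveCohLib.isNoetherian_of_proper (k := S.residueField (g t)) (X := f.fiber (g t))
  exact (CurveCohLib.euler_congr (k := S'.residueField t)
    ((Scheme.Modules.pullbackComp (q.fiberι t) h).app G ≪≫
      (Scheme.Modules.pullbackCongr hm.symm).app G ≪≫
      ((Scheme.Modules.pullbackComp m (f.fiberι (g t))).app G).symm)).trans
    (CurveBC.euler_eq (S.residueField (g t)) (S'.residueField t) m hpb _ (QCoh.isQCoh_pullback _ hG))

/-- Twisting by a power of an invertible module. -/
abbrev tw (F L : X.Modules) (n : ℕ) : X.Modules := CohB1.tensorMod F (CohB1.tensorPow L n)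

theorem tw_pullback {Y : Scheme.{u}} (g : Y ⟶ X) (F L : X.Modules) (n : ℕ) :
    Nonempty ((Scheme.Modules.pullback g).obj (tw F L n) ≅
      tw ((Scheme.Modules.pullback g).obj F) ((Scheme.Modules.pullback g).obj L) n) :=
  S7761.pullback_tensorPows g F (fun _ : Fin 1 => L) (fun _ => n)

theorem isQCoh_tw {F L : X.Modules} (hF : Coh.IsQCoh F) (hL : PicF.IsInvertible L) (n : ℕ) :
    Coh.IsQCoh (tw F L n) :=
  KFlatLib.isQCoh_tensor hF (ProjUPX.isQCoh_of_isInvertible (InvX.isInvertible_tensorPow hL n))

/-- For a flat family the Hilbert polynomial of the fibres is locally constant. -/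
theorem isLocallyConstant_χtw (f : X ⟶ S) [IsProper f] [LocallyOfFinitePresentation f] {F : X.Modules}
    (hF : CohB1.IsFP F) (hfl : FlatMod.IsFlatOver f F) {L : X.Modules} (hL : PicF.IsInvertible L) :
    IsLocallyConstant fun (s : S) (n : ℕ) => χ f (tw F L n) s := by
  refine (IsLocallyConstant.iff_exists_open _).2 fun s => ?_
  obtain ⟨U, hsU, hU⟩ := S7761.result X S f F hF hfl 1 (fun _ => L) (fun _ => hL) s
  exact ⟨U, U.2, hsU, fun y hy => funext fun n => hU y hy fun _ => n⟩

end Groth.Agent.HilbFib
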