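import Groth.Agent.HilbFib.Criterion
import Groth.Agent.DerBC7.Derived
import Groth.Agent.CohPullLib.BC0
import Groth.Agent.CohPullLib.SectPull
import Groth.Agent.CohPullLib.BCComp
import Groth.Agent.ExistEasy.PP.PullSec
import Groth.Agent.ExistEasy.PP.FFSheaf
import Groth.Agent.FlatBC6.Zero
import Groth.Agent.AzumayaX.Fibres
import Groth.Agent.RGLib.YBlow
import Groth.Agent.AmpleVan.ThickPush

/-!
# The degree zero base change map: naturality, composition, closed base changes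
-/

set_option autoImplicit false
set_option backward.isDefEq.respectTransparency false
set_option backward.isDefEq.respectTransparency.types false
set_option linter.style.haveILetI false
set_option maxRecDepth 4000
set_option maxHeartbeats 800000

universe u

open CategoryTheory CategoryTheory.Limits AlgebraicGeometry TopologicalSpace Opposite
open Groth.Agent.PnCoh.Finite (mapLin)
open scoped TensorProduct

noncomputable section

namespace Groth.Agent.HilbFib

open Groth.Agent.QCoh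

variable {X X₁ X₂ S S₁ S₂ : Scheme.{u}}

theorem bc0_natural {f : X ⟶ S} {g : S₁ ⟶ S} {f' : X₁ ⟶ S₁} {g' : X₁ ⟶ X} (w : g' ≫ f = f' ≫ g)
    {M N : X.Modules} (φ : M ⟶ N) :
    (Scheme.Modules.pullback g).map ((Scheme.Modules.pushforward f).map φ) ≫ CohBC.bc0 f g f' g' w N =
      CohBC.bc0 f g f' g' w M ≫
        (Scheme.Modules.pushforward f').map ((Scheme.Modules.pullback g').map φ) := by
  rw [← DerBC7.tauNat_app, ← DerBC7.tauNat_app]
  exact (DerBC7.tauNat f g f' g' w).naturality φ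

theorem bc0_comp {f : X ⟶ S} {g₁ : S₁ ⟶ S} {f₁ : X₁ ⟶ S₁} {g₁' : X₁ ⟶ X} (w₁ : g₁' ≫ f = f₁ ≫ g₁)
    {g₂ : S₂ ⟶ S₁} {f₂ : X₂ ⟶ S₂} {g₂' : X₂ ⟶ X₁} (w₂ : g₂' ≫ f₁ = f₂ ≫ g₂)
    (w : (g₂' ≫ g₁') ≫ f = f₂ ≫ g₂ ≫ g₁) (F : X.Modules) :
    CohBC.bc0 f (g₂ ≫ g₁) f₂ (g₂' ≫ g₁') w F =
      (Scheme.Modules.pullbackComp g₂ g₁).inv.app ((Scheme.Modules.pushforward f).obj F) ≫
        (Scheme.Modules.pullback g₂).map (CohBC.bc0 f g₁ f₁ g₁' w₁ F) ≫
        CohBC.bc0 f₁ g₂ f₂ g₂' w₂ ((Scheme.Modules.pullback g₁').obj F) ≫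
        (Scheme.Modules.pushforward f₂).map ((Scheme.Modules.pullbackComp g₂' g₁').hom.app F) := by
  refine CohPullLib.pullback_hom_ext (g₂ ≫ g₁) _ _ fun V x => ?_
  let M := (Scheme.Modules.pushforward f).obj F
  let F₁ := (Scheme.Modules.pullback g₁').obj F
  simp only [Scheme.Modules.Hom.comp_app, ConcreteCategory.comp_apply]
  refine (CohPullLib.bc0_app_pullSec w F le_rfl x).trans (Eq.symm ?_)
  have e₁ : ((Scheme.Modules.pullbackComp g₂ g₁).inv.app M).app ((g₂ ≫ g₁) ⁻¹ᵁ V)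
      (pullSec (g₂ ≫ g₁) M (le_refl ((g₂ ≫ g₁) ⁻¹ᵁ V)) x) =
      pullSec g₂ ((Scheme.Modules.pullback g₁).obj M) (W := (g₂ ≫ g₁) ⁻¹ᵁ V) (V := g₁ ⁻¹ᵁ V) le_rfl
        (pullSec g₁ M (le_refl (g₁ ⁻¹ᵁ V)) x) :=
    CohPullLib.pullbackComp_inv_pullSec g₂ g₁ M le_rfl le_rfl x
  let W : S₂.Opens := (g₂ ≫ g₁) ⁻¹ᵁ V
  have hW : W ≤ g₂ ⁻¹ᵁ (g₁ ⁻¹ᵁ V) := le_rfl
  let A := ((Scheme.Modules.pushforward f₂).map ((Scheme.Modules.pullbackComp g₂' g₁').hom.app F)).app W
  let B := (CohBC.bc0 f₁ g₂ f₂ g₂' w₂ F₁).app W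
  let C := ((Scheme.Modules.pullback g₂).map (CohBC.bc0 f g₁ f₁ g₁' w₁ F)).app W
  refine (congrArg (fun t => A (B (C t))) e₁).trans ?_
  refine (congrArg (fun t => A (B t)) (ExistEasy.pullSec_natural g₂ (CohBC.bc0 f g₁ f₁ g₁' w₁ F) hW
    (pullSec g₁ M (le_refl (g₁ ⁻¹ᵁ V)) x))).trans ?_
  refine (congrArg (fun t => A (B (pullSec g₂ _ hW t))) (CohPullLib.bc0_app_pullSec w₁ F le_rfl x)).trans ?_
  refine (congrArg A (CohPullLib.bc0_app_pullSec w₂ F₁ (V := g₁ ⁻¹ᵁ V) (W := W) hW _)).trans ?_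
  exact ExistEasy.pullSec_comp g₂' g₁' F (CohPullLib.sectLE w₁ le_rfl) (CohPullLib.sectLE w₂ le_rfl) x

section Iso

variable {f : X ⟶ S} {g₁ : S₁ ⟶ S} {f₁ : X₁ ⟶ S₁} {g₁' : X₁ ⟶ X} (w₁ : g₁' ≫ f = f₁ ≫ g₁)
  {g₂ : S₂ ⟶ S₁} {f₂ : X₂ ⟶ S₂} {g₂' : X₂ ⟶ X₁} (w₂ : g₂' ≫ f₁ = f₂ ≫ g₂)
  {g : S₂ ⟶ S} {g' : X₂ ⟶ X} (hg : g₂ ≫ g₁ = g) (hg' : g₂' ≫ g₁' = g') (w : g' ≫ f = f₂ ≫ g) {F : X.Modules}

include w₁ w₂ hg hg' in
theorem isIso_bc0_comp (h₁ : IsIso (CohBC.bc0 f g₁ f₁ g₁' w₁ F))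
    (h₂ : IsIso (CohBC.bc0 f₁ g₂ f₂ g₂' w₂ ((Scheme.Modules.pullback g₁').obj F))) :
    IsIso (CohBC.bc0 f g f₂ g' w F) := by
  subst hg; subst hg'
  rw [bc0_comp w₁ w₂]
  infer_instance

include w₁ w₂ hg hg' in
theorem isIso_pullback_bc0 (h : IsIso (CohBC.bc0 f g f₂ g' w F))
    (h₂ : IsIso (CohBC.bc0 f₁ g₂ f₂ g₂' w₂ ((Scheme.Modules.pullback g₁').obj F))) :
    IsIso ((Scheme.Modules.pullback g₂).map (CohBC.bc0 f g₁ f₁ g₁' w₁ F)) := by
  subst hg; subst hg'
  rw [bc0_comp w₁ w₂] at h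
  haveI := h
  haveI := IsIso.of_isIso_comp_left ((Scheme.Modules.pullbackComp g₂ g₁).inv.app _)
    ((Scheme.Modules.pullback g₂).map (CohBC.bc0 f g₁ f₁ g₁' w₁ F) ≫
      CohBC.bc0 f₁ g₂ f₂ g₂' w₂ ((Scheme.Modules.pullback g₁').obj F) ≫
      (Scheme.Modules.pushforward f₂).map ((Scheme.Modules.pullbackComp g₂' g₁').hom.app F))
  exact IsIso.of_isIso_comp_right ((Scheme.Modules.pullback g₂).map (CohBC.bc0 f g₁ f₁ g₁' w₁ F))
    (CohBC.bc0 f₁ g₂ f₂ g₂' w₂ ((Scheme.Modules.pullback g₁').obj F) ≫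
      (Scheme.Modules.pushforward f₂).map ((Scheme.Modules.pullbackComp g₂' g₁').hom.app F))

end Iso

/-- Base change along `g` is an isomorphism on the direct image of `F`. -/
def GoodBC (f : X ⟶ S) (F : X.Modules) (g : S₁ ⟶ S) : Prop :=
  ∀ ⦃Y : Scheme.{u}⦄ (g' : Y ⟶ X) (f' : Y ⟶ S₁) (h : IsPullback g' f' f g), IsIso (CohBC.bc0 f g f' g' h.w F)

theorem GoodBC.of_flat (f : X ⟶ S) [QuasiCompact f] [QuasiSeparated f] {F : X.Modules} (hF : Coh.IsQCoh F)
    (g : S₁ ⟶ S) [Flat g] : GoodBC f F g :=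
  fun _ _ _ h => FlatBC6.isIso_bc0_flat h hF

theorem GoodBC.of_square {f : X ⟶ S} [IsProper f] {g : S₁ ⟶ S} {F : X.Modules} (hF : Coh.IsQCoh F)
    {f₁ : X₁ ⟶ S₁} {g₁' : X₁ ⟶ X} (h : IsPullback g₁' f₁ f g) (hiso : IsIso (CohBC.bc0 f g f₁ g₁' h.w F)) :
    GoodBC f F g := fun Y g' f' h' => by
  let e := h'.isoIsPullback _ _ h
  haveI : IsProper f₁ := MorphismProperty.of_isPullback (P := @IsProper) h ‹_›
  have he : IsPullback e.hom f' f₁ (𝟙 S₁) := IsPullback.of_horiz_isIso ⟨by simp [e]⟩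
  exact isIso_bc0_comp h.w he.w (Category.id_comp g) (by simp [e]) h'.w hiso
    (GoodBC.of_flat f₁ (isQCoh_pullback g₁' hF) (𝟙 S₁) _ _ he)

theorem GoodBC.comp {f : X ⟶ S} {F : X.Modules} {g₁ : S₁ ⟶ S} {f₁ : X₁ ⟶ S₁} {g₁' : X₁ ⟶ X}
    [IsProper f] (hF : Coh.IsQCoh F) (h : IsPullback g₁' f₁ f g₁) (hg : GoodBC f F g₁) {g₂ : S₂ ⟶ S₁}
    (hg₂ : GoodBC f₁ ((Scheme.Modules.pullback g₁').obj F) g₂) : GoodBC f F (g₂ ≫ g₁) := by
  have h₂ := IsPullback.of_hasPullback f₁ g₂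
  exact GoodBC.of_square hF (h₂.paste_horiz h)
    (isIso_bc0_comp h.w h₂.w rfl rfl (h₂.paste_horiz h).w (hg _ _ h) (hg₂ _ _ h₂))

theorem GoodBC.of_iso {f : X ⟶ S} {g : S₁ ⟶ S} {F G : X.Modules} (e : F ≅ G) (h : GoodBC f F g) :
    GoodBC f G g := fun Y g' f' hsq => by
  haveI := h g' f' hsq
  have := bc0_natural (f' := f') hsq.w e.hom
  haveI : IsIso ((Scheme.Modules.pullback g).map ((Scheme.Modules.pushforward f).map e.hom) ≫
      CohBC.bc0 f g f' g' hsq.w G) := by rw [this]; infer_instance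
  exact IsIso.of_isIso_comp_left ((Scheme.Modules.pullback g).map ((Scheme.Modules.pushforward f).map e.hom)) _

/-- Being an isomorphism can be tested on the members of an open cover. -/
theorem isIso_of_pullback_cover {Y : Scheme.{u}} {M N : Y.Modules} (φ : M ⟶ N)
    (h : ∀ y : Y, ∃ U : Y.Opens, y ∈ U ∧ IsIso ((Scheme.Modules.pullback U.ι).map φ)) : IsIso φ :=
  RGLib.YBlow.isIso_of_restrict_cover φ fun y => by
    obtain ⟨U, hy, hU⟩ := h y
    exact ⟨U, hy, (NatIso.isIso_map_iff (Scheme.Modules.restrictFunctorIsoPullback U.ι) φ).2 hU⟩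

/-- The effect of a field valued point on sections. -/
theorem bijective_baseChange_residue {T : Scheme.{u}} {M N : T.Modules} {V : T.Opens} {K : Type u} [Field K]
    [Algebra Γ(T, V) K] (k : Spec (CommRingCat.of K) ⟶ T) (hM : Coh.IsQCoh M) (hN : Coh.IsQCoh N)
    (hV : IsAffineOpen V) (hle : (⊤ : (Spec (CommRingCat.of K)).Opens) ≤ k ⁻¹ᵁ V)
    (φ : M ⟶ N) [IsIso ((Scheme.Modules.pullback k).map φ)]
    (l : Γ(M, V) →ₗ[Γ(T, V)] Γ(N, V)) (hl : ∀ x, l x = φ.app V x)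
    (hk : k.appLE V ⊤ hle ≫ (Scheme.ΓSpecIso (CommRingCat.of K)).hom = CommRingCat.ofHom (algebraMap Γ(T, V) K)) :
    Function.Bijective (l.baseChange K) := by
  let K' := Γ(Spec (CommRingCat.of K), ⊤)
  letI : Algebra Γ(T, V) K' := (k.appLE V ⊤ hle).hom.toAlgebra
  letI iM : Module Γ(T, V) Γ((Scheme.Modules.pullback k).obj M, ⊤) := Module.compHom _ (k.appLE V ⊤ hle).hom
  letI iN : Module Γ(T, V) Γ((Scheme.Modules.pullback k).obj N, ⊤) := Module.compHom _ (k.appLE V ⊤ hle).hom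
  haveI : IsScalarTower Γ(T, V) K' Γ((Scheme.Modules.pullback k).obj M, ⊤) :=
    ⟨fun a b c => mul_smul ((k.appLE V ⊤ hle).hom a) b c⟩
  haveI : IsScalarTower Γ(T, V) K' Γ((Scheme.Modules.pullback k).obj N, ⊤) :=
    ⟨fun a b c => mul_smul ((k.appLE V ⊤ hle).hom a) b c⟩
  obtain ⟨lM, hlM, hbM⟩ := ExistEasy.exists_pullSec_baseChange k hM (isAffineOpen_top _) hV hle
  obtain ⟨lN, hlN, hbN⟩ := ExistEasy.exists_pullSec_baseChange k hN (isAffineOpen_top _) hV hle
  let p := ((Scheme.Modules.pullback k).map φ).app ⊤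
  have hc : ∀ z, hbN.equiv (l.baseChange K' z) = p (hbM.equiv z) := fun z => by
    induction z using TensorProduct.induction_on with
    | zero => rw [map_zero, map_zero, map_zero, map_zero]
    | add a b ha hb => rw [map_add, map_add, map_add, map_add, ha, hb]
    | tmul c x =>
      rw [LinearMap.baseChange_tmul, IsBaseChange.equiv_tmul, IsBaseChange.equiv_tmul, hlN, hlM, hl]
      exact ((Scheme.Modules.Hom.app_smul ((Scheme.Modules.pullback k).map φ) c _).trans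
        (congrArg (c • ·) (ExistEasy.pullSec_natural k φ hle x))).symm
  have hK : Function.Bijective (l.baseChange K') :=
    (Function.Bijective.of_comp_iff' hbN.equiv.bijective _).1
      ((funext hc : ⇑hbN.equiv ∘ ⇑(l.baseChange K') = _) ▸
        (ConcreteCategory.bijective_of_isIso p).comp hbM.equiv.bijective)
  let σ := (Scheme.ΓSpecIso (CommRingCat.of K)).commRingCatIsoToRingEquiv
  have hσ : ∀ a, σ (algebraMap Γ(T, V) K' a) = algebraMap Γ(T, V) K a := fun a => congr($hk a)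
  let σl : K' ≃ₗ[Γ(T, V)] K := σ.toAddEquiv.toLinearEquiv fun a z => by
    show σ (algebraMap Γ(T, V) K' a * z) = a • σ z
    rw [map_mul, hσ, Algebra.smul_def]
  have hσc : ∀ z, TensorProduct.congr σl (LinearEquiv.refl _ Γ(N, V)) (l.baseChange K' z) =
      l.baseChange K (TensorProduct.congr σl (LinearEquiv.refl _ Γ(M, V)) z) := fun z => by
    induction z using TensorProduct.induction_on with
    | zero => rw [map_zero, map_zero, map_zero, map_zero]
    | add a b ha hb => rw [map_add, map_add, map_add, map_add, ha, hb]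
    | tmul c x => rfl
  exact (Function.Bijective.of_comp_iff _ (TensorProduct.congr σl (LinearEquiv.refl _ Γ(M, V))).bijective).1
    ((funext hσc : _ = ⇑(l.baseChange K) ∘ _) ▸ (LinearEquiv.bijective _).comp hK)

theorem appLE_fromSpec_comp {T : Scheme.{u}} {V : T.Opens} (hV : IsAffineOpen V) {K : CommRingCat.{u}}
    (φ : Γ(T, V) ⟶ K) (hle : (⊤ : (Spec K).Opens) ≤ (Spec.map φ ≫ hV.fromSpec) ⁻¹ᵁ V) :
    (Spec.map φ ≫ hV.fromSpec).appLE V ⊤ hle ≫ (Scheme.ΓSpecIso K).hom = φ := by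
  have h1 := IsAffineOpen.SpecMap_appLE_fromSpec (Spec.map φ ≫ hV.fromSpec) hV (isAffineOpen_top (Spec K)) hle
  rw [IsAffineOpen.fromSpec_top, Scheme.isoSpec_Spec_inv, ← Category.assoc, ← Spec.map_comp, cancel_mono] at h1
  rw [Spec.map_injective h1]
  simp

/-- A map to a finite locally free module which is an isomorphism at all field valued points is one. -/
theorem isIso_of_fibres {T : Scheme.{u}} {M N : T.Modules} (hM : Coh.IsQCoh M) (hMf : CohB1.IsFT M)
    (hN : FlatMod.IsFinLocFree N) (hNq : Coh.IsQCoh N) (φ : M ⟶ N)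
    (h : ∀ (K : Type u) [Field K] (k : Spec (CommRingCat.of K) ⟶ T), IsIso ((Scheme.Modules.pullback k).map φ)) :
    IsIso φ := by
  refine CohPullLib.isIso_of_bijective_cover hM hNq φ (ι := T.affineOpens) (fun U => U.1) (fun U => U.2)
    (fun x => ?_) fun U => ?_
  · obtain ⟨U, hU, hx, -⟩ := exists_isAffineOpen_mem_and_subset (x := x) (U := (⊤ : T.Opens)) trivial
    exact ⟨⟨U, hU⟩, hx⟩
  obtain ⟨V, hV⟩ := U
  haveI : Module.Finite Γ(T, V) Γ(M, V) := QCoh.finite_of_isFT hM hMf hV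
  obtain ⟨hfl, hfp⟩ := isFlat_and_isFP_iff.2 hN
  haveI : Module.Flat Γ(T, V) Γ(N, V) := (QCoh.flat_sections_iff hNq hV).2 fun x _ => hfl x
  haveI : Module.FinitePresentation Γ(T, V) Γ(N, V) := QCoh.finitePresentation_of_isFP hfp hV
  haveI : Module.Projective Γ(T, V) Γ(N, V) := Module.Flat.projective_of_finitePresentation
  let l : Γ(M, V) →ₗ[Γ(T, V)] Γ(N, V) :=
    { toFun := fun m => φ.app V m
      map_add' := fun a b => map_add _ a b
      map_smul' := fun r m => Scheme.Modules.Hom.app_smul φ r m }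
  refine AzumayaX.bijective_of_fibres l fun m hm => ?_
  let k : Spec (CommRingCat.of m.ResidueField) ⟶ T :=
    Spec.map (CommRingCat.ofHom (algebraMap Γ(T, V) m.ResidueField)) ≫ hV.fromSpec
  haveI := h m.ResidueField k
  have hle : (⊤ : (Spec (CommRingCat.of m.ResidueField)).Opens) ≤ k ⁻¹ᵁ V := fun z _ => by
    exact hV.range_fromSpec.le ⟨_, rfl⟩
  refine bijective_baseChange_residue k hM hNq hV hle φ l (fun _ => rfl) ?_
  exact appLE_fromSpec_comp hV _ hle

/-- Eventual base change along a closed immersion of affine schemes. -/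
theorem exists_goodBC_quot {R : Type u} [CommRing R] [IsNoetherianRing R] {X : Scheme.{u}}
    [X.Over (Spec (CommRingCat.of R))] [IsProper (X ↘ Spec (CommRingCat.of R))] {L : X.Modules}
    (hL : CohB1.IsAmple L) {F : X.Modules} (hF : Coh.IsCoh F) (J : Ideal R) :
    ∃ N : ℕ, ∀ n, N ≤ n →
      GoodBC (X ↘ Spec (CommRingCat.of R)) (tw F L n) (Spec.map (CommRingCat.ofHom (Ideal.Quotient.mk J))) := by
  set π := X ↘ Spec (CommRingCat.of R) with hπ
  let g := Spec.map (CommRingCat.ofHom (Ideal.Quotient.mk J))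
  haveI : IsClosedImmersion g := IsClosedImmersion.spec_of_surjective _ Ideal.Quotient.mk_surjective
  obtain ⟨r, a, ha⟩ := Submodule.fg_iff_exists_fin_generating_family.1 (IsNoetherian.noetherian J)
  obtain ⟨Q, φ, hQ, hφ, hkill, hiso, N, hN⟩ := exists_reduce (A := R) hL hF a
  refine ⟨N, fun n hn => ?_⟩
  obtain ⟨hs, hker⟩ := hN n hn
  let i := pullback.fst π g
  let q := pullback.snd π g
  have sq : IsPullback i q π g := IsPullback.of_hasPullback π g
  haveI : IsClosedImmersion i := MorphismProperty.of_isPullback sq.flip ‹IsClosedImmersion g›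
  refine GoodBC.of_square (isQCoh_tw hF.1 hL.1 n) sq ?_
  letI : (pullback π g).Over (Spec (CommRingCat.of R)) := ⟨i ≫ π⟩
  haveI := isEquivalence_twF hL.1 n
  haveI : (twF L n).Additive := Functor.additive_of_preserves_binary_products _
  have hgl : ∀ c ∈ J, Coh.toGlobal (i ≫ π) c = 0 := fun c hc => by
    rw [show i ≫ π = q ≫ g from sq.w]
    show q.appTop (g.appTop ((Scheme.ΓSpecIso (CommRingCat.of R)).inv c)) = 0
    rw [show g.appTop ((Scheme.ΓSpecIso (CommRingCat.of R)).inv c) =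
      (Scheme.ΓSpecIso (CommRingCat.of (R ⧸ J))).inv (Ideal.Quotient.mk J c) from
        congr($(Scheme.ΓSpecIso_inv_naturality (CommRingCat.ofHom (Ideal.Quotient.mk J))) c).symm,
      Ideal.Quotient.eq_zero_iff_mem.2 hc, map_zero, map_zero]
  have hsmul0 : ∀ (M : (pullback π g).Modules), ∀ c ∈ J, Formal.smulMod R M c = 0 := fun M c hc => by
    refine Scheme.Modules.hom_ext _ _ fun U => ?_
    ext x
    refine (FFun.smulMod_app (A := R) M c U x).trans ?_
    rw [show Coh.toGlobal ((pullback π g) ↘ Spec (CommRingCat.of R)) c = 0 from hgl c hc, map_zero]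
    exact zero_smul _ x
  have hpull : ∀ (M : X.Modules), ∀ c ∈ J,
      (Scheme.Modules.pullback i).map (Formal.smulMod R M c) = 0 := fun M c hc => by
    let adj := Scheme.Modules.pullbackPushforwardAdjunction i
    apply (adj.homEquiv _ _).injective
    rw [Adjunction.homEquiv_unit, Adjunction.homEquiv_unit]
    refine (adj.unit.naturality (Formal.smulMod R M c)).symm.trans ?_
    simp only [Functor.id_map, Functor.map_zero, comp_zero]
    refine (FFun.smulMod_naturality (A := R) (adj.unit.app M) c).trans ?_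
    show adj.unit.app M ≫ Formal.smulMod R ((Scheme.Modules.pushforward i).obj _) c = 0
    rw [← AmpleVan.push_map_smulMod i rfl, hsmul0 _ c hc, Functor.map_zero, comp_zero]
  have hspan : Ideal.span (Set.range a) = J := ha
  have hmem : ∀ j, a j ∈ J := fun j => hspan.le (Ideal.subset_span ⟨j, rfl⟩)
  let G := tw F L n
  let Q' := (twF L n).obj Q
  let φ' : G ⟶ Q' := (twF L n).map φ
  haveI : IsIso ((Scheme.Modules.pullback i).map φ') :=
    hiso (twF L n ⋙ Scheme.Modules.pullback i) fun M j => by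
      show (Scheme.Modules.pullback i).map ((twF L n).map _) = 0
      rw [twF_map_smulMod]
      exact hpull _ _ (hmem j)
  have hQn : Coh.IsQCoh Q' := isQCoh_tw hQ.1 hL.1 n
  have hJle : ∀ c ∈ J, Formal.smulMod R Q' c = 0 := fun c hc => by
    have hle : Ideal.span (Set.range a) ≤ FFun.killIdeal Q' := Ideal.span_le.2 (by
      rintro _ ⟨j, rfl⟩
      show Formal.smulMod R _ (a j) = 0
      rw [← twF_map_smulMod, hkill j, Functor.map_zero])
    exact hle (hspan.symm ▸ hc)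
  let η := (Scheme.Modules.pullbackPushforwardAdjunction i).unit
  haveI : IsIso (η.app Q') := by
    obtain ⟨h0, hd⟩ := AmpleVan.unit_desc_iso sq hQn
    have hz : Formal.smulFamily J Q' = 0 := Sigma.hom_ext _ _ fun c => by
      rw [comp_zero]
      exact (Sigma.ι_desc _ _).trans (hJle c.1 c.2)
    haveI : IsIso (cokernel.π (Formal.smulFamily J Q')) := cokernel.π_of_zero hz
    haveI := hd
    rw [← cokernel.π_desc _ _ h0]
    infer_instance
  have hGq : Coh.IsQCoh G := isQCoh_tw hF.1 hL.1 n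
  let M := (Scheme.Modules.pushforward π).obj G
  have hle : (⊤ : (Spec (CommRingCat.of (R ⧸ J))).Opens) ≤ g ⁻¹ᵁ ⊤ := fun _ _ => trivial
  letI : Algebra Γ(Spec (CommRingCat.of R), ⊤) Γ(Spec (CommRingCat.of (R ⧸ J)), ⊤) := (g.appLE ⊤ ⊤ hle).hom.toAlgebra
  letI : Module Γ(Spec (CommRingCat.of R), ⊤) Γ((Scheme.Modules.pullback g).obj M, ⊤) :=
    Module.compHom _ (g.appLE ⊤ ⊤ hle).hom
  haveI : IsScalarTower Γ(Spec (CommRingCat.of R), ⊤) Γ(Spec (CommRingCat.of (R ⧸ J)), ⊤)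
      Γ((Scheme.Modules.pullback g).obj M, ⊤) := ⟨fun a b c => mul_smul ((g.appLE ⊤ ⊤ hle).hom a) b c⟩
  obtain ⟨l, hl, hb⟩ := ExistEasy.exists_pullSec_baseChange g (isQCoh_pushforward π hGq) (isAffineOpen_top _)
    (isAffineOpen_top _) hle
  have hsurj : ∀ c : Γ(Spec (CommRingCat.of (R ⧸ J)), ⊤), ∃ b : R,
      g.appLE ⊤ ⊤ hle ((Scheme.ΓSpecIso (CommRingCat.of R)).inv b) = c ∧
        (b ∈ J → c = 0) := fun c => by
    obtain ⟨b, hb⟩ := Ideal.Quotient.mk_surjective ((Scheme.ΓSpecIso (CommRingCat.of (R ⧸ J))).hom c)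
    have he : g.appLE ⊤ ⊤ hle ((Scheme.ΓSpecIso (CommRingCat.of R)).inv b) =
        (Scheme.ΓSpecIso (CommRingCat.of (R ⧸ J))).inv (Ideal.Quotient.mk J b) := by
      rw [show g.appLE ⊤ ⊤ hle = g.appTop from g.appLE_eq_app]
      exact congr($(Scheme.ΓSpecIso_inv_naturality (CommRingCat.ofHom (Ideal.Quotient.mk J))) b).symm
    refine ⟨b, ?_, fun hbJ => ?_⟩
    · rw [he, hb]; exact congr($((Scheme.ΓSpecIso (CommRingCat.of (R ⧸ J))).hom_inv_id) c)
    · have := congrArg (Scheme.ΓSpecIso (CommRingCat.of (R ⧸ J))).inv hb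
      rw [Ideal.Quotient.eq_zero_iff_mem.2 hbJ, map_zero] at this
      exact (this.trans (congr($((Scheme.ΓSpecIso (CommRingCat.of (R ⧸ J))).hom_inv_id) c))).symm
  have hlsurj : Function.Surjective l := fun z => by
    obtain ⟨w, rfl⟩ := hb.equiv.surjective z
    induction w using TensorProduct.induction_on with
    | zero => exact ⟨0, by simp⟩
    | add u v hu hv =>
      obtain ⟨x, hx⟩ := hu
      obtain ⟨y, hy⟩ := hv
      exact ⟨x + y, by rw [map_add, hx, hy, map_add]⟩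
    | tmul c x =>
      obtain ⟨b, rfl, -⟩ := hsurj c
      exact ⟨(Scheme.ΓSpecIso (CommRingCat.of R)).inv b • x, by rw [map_smul, IsBaseChange.equiv_tmul]; rfl⟩
  let θ : Γ(M, ⊤) → Γ((Scheme.Modules.pullback i).obj G, q ⁻¹ᵁ ⊤) := fun x =>
    pullSec i G (CohPullLib.sectLE sq.w hle) (show Γ(G, π ⁻¹ᵁ ⊤) from x)
  have hθbc : ∀ x, (CohBC.bc0 π g q i sq.w G).app ⊤ (l x) = θ x := fun x => by
    rw [hl]; exact CohPullLib.bc0_app_pullSec sq.w G hle x
  let pQ : Γ(Q', ⊤) → Γ((Scheme.Modules.pullback i).obj Q', ⊤) := fun y => pullSec i Q' le_rfl y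
  have hpQ : Function.Bijective pQ := by
    have : pQ = fun y => (η.app Q').app ⊤ y := funext fun y => QCoh.map_id' _ _
    rw [this]
    exact ConcreteCategory.bijective_of_isIso ((η.app Q').app ⊤)
  have hpb : Function.Bijective (((Scheme.Modules.pullback i).map φ').app ⊤) := ConcreteCategory.bijective_of_isIso _
  have hcomm : ∀ x : Γ(G, ⊤), ((Scheme.Modules.pullback i).map φ').app ⊤ (pullSec i G le_rfl x) =
      pQ (φ'.app ⊤ x) := fun x => ExistEasy.pullSec_natural i φ' le_rfl x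
  let ρ := Coh.toGlobal π
  letI := secModule ρ G ⊤
  letI := secModule ρ Q' ⊤
  have hφs : Function.Surjective (φ'.app ⊤) := fun y => by
    obtain ⟨h, hh⟩ := hs (secH ρ Q' y)
    obtain ⟨x, rfl⟩ := (secH ρ G).surjective h
    exact ⟨x, (secH ρ Q').injective ((ExistEasy.secH_natural (B := R) φ' x).symm.trans hh)⟩
  have hθs : Function.Surjective θ := fun z => by
    obtain ⟨y, hy⟩ := hpQ.2 (((Scheme.Modules.pullback i).map φ').app ⊤ z)
    obtain ⟨x, rfl⟩ := hφs y
    exact ⟨x, hpb.1 ((hcomm x).trans hy)⟩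
  have hθk : ∀ x, θ x = 0 → l x = 0 := fun x hx => by
    have h0 : pQ 0 = 0 := by
      show pullSec i Q' le_rfl 0 = 0
      rw [show pullSec i Q' le_rfl (0 : Γ(Q', ⊤)) = (η.app Q').app ⊤ 0 from QCoh.map_id' _ _, map_zero]
    have h1 : φ'.app ⊤ x = 0 := hpQ.1 (((hcomm x).symm.trans (by
      rw [show pullSec i G le_rfl x = θ x from rfl, hx]
      exact map_zero (((Scheme.Modules.pullback i).map φ').app ⊤).hom)).trans h0.symm)
    have h2 : secH ρ G x ∈ Ideal.span (Set.range a) • (⊤ : Submodule R (Coh.HH X G 0)) := by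
      have hm : mapLin R φ' 0 (secH ρ G x) = 0 :=
        (ExistEasy.secH_natural (B := R) φ' x).trans (by rw [h1]; exact map_zero _)
      exact hker.le hm
    rw [hspan] at h2
    obtain ⟨y, hy⟩ : ∃ y, secH ρ G x = y := ⟨_, rfl⟩
    rw [hy] at h2
    have : ∀ x : Γ(G, ⊤), secH ρ G x = y → l (show Γ(M, ⊤) from x) = 0 := by
      clear hy hx h1
      induction h2 using Submodule.smul_induction_on' with
      | smul c hc h _ =>
        intro x hx
        obtain ⟨x₀, rfl⟩ := (secH ρ G).surjective h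
        rw [← map_smul] at hx
        obtain rfl := (secH ρ G).injective hx
        have e : (show Γ(M, ⊤) from (c • x₀ : Γ(G, ⊤))) =
            (Scheme.ΓSpecIso (CommRingCat.of R)).inv c • (show Γ(M, ⊤) from x₀) := by
          refine Eq.trans ?_ (smul_push_top π G _ x₀).symm
          show X.presheaf.map (homOfLE (le_top : (⊤ : X.Opens) ≤ ⊤)).op (ρ c) • (show Γ(G, ⊤) from x₀) =
            π.appTop ((Scheme.ΓSpecIso (CommRingCat.of R)).inv c) • (show Γ(G, ⊤) from x₀)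
          rw [show (homOfLE (le_top : (⊤ : X.Opens) ≤ ⊤)).op = 𝟙 _ from rfl, CategoryTheory.Functor.map_id]
          rfl
        rw [e, map_smul]
        refine (algebraMap_smul Γ(Spec (CommRingCat.of (R ⧸ J)), ⊤) _ _).symm.trans ?_
        rw [show algebraMap Γ(Spec (CommRingCat.of R), ⊤) Γ(Spec (CommRingCat.of (R ⧸ J)), ⊤)
            ((Scheme.ΓSpecIso (CommRingCat.of R)).inv c) = 0 from ?_, zero_smul]
        show g.appLE ⊤ ⊤ hle ((Scheme.ΓSpecIso (CommRingCat.of R)).inv c) = 0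
        rw [show g.appLE ⊤ ⊤ hle = g.appTop from g.appLE_eq_app,
          show g.appTop ((Scheme.ΓSpecIso (CommRingCat.of R)).inv c) =
            (Scheme.ΓSpecIso (CommRingCat.of (R ⧸ J))).inv (Ideal.Quotient.mk J c) from
          congr($(Scheme.ΓSpecIso_inv_naturality (CommRingCat.ofHom (Ideal.Quotient.mk J))) c).symm,
          Ideal.Quotient.eq_zero_iff_mem.2 hc, map_zero]
      | add u hu v hv ihu ihv =>
        intro x hx
        obtain ⟨xu, rfl⟩ := (secH ρ G).surjective u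
        obtain ⟨xv, rfl⟩ := (secH ρ G).surjective v
        rw [← map_add] at hx
        obtain rfl := (secH ρ G).injective hx
        exact (map_add l _ _).trans (by rw [ihu xu rfl, ihv xv rfl, add_zero])
    exact this x hy
  have hbij : Function.Bijective ((CohBC.bc0 π g q i sq.w G).app ⊤) := by
    refine ⟨(injective_iff_map_eq_zero _).2 fun z hz => ?_, fun z => ?_⟩
    · obtain ⟨x, rfl⟩ := hlsurj z
      exact hθk x ((hθbc x).symm.trans hz)
    · obtain ⟨x, rfl⟩ := hθs z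
      exact ⟨l x, hθbc x⟩
  exact CohPullLib.isIso_of_bijective_cover (isQCoh_pullback g (isQCoh_pushforward π hGq))
    (isQCoh_pushforward q (isQCoh_pullback i hGq)) _ (ι := PUnit) (fun _ => ⊤) (fun _ => isAffineOpen_top _)
    (fun _ => ⟨⟨⟩, trivial⟩) fun _ => hbij

end Groth.Agent.HilbFib
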