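import Groth.Agent.HilbFib.Basic
import Groth.Agent.AmpleVan.LiftFibre
import Groth.Agent.AmpleVan.AdicBase
import Groth.Agent.AmpleVan.Uniform
import Groth.Agent.IntNum.Push
import Groth.Agent.FFun.Basic

/-!
# Large twists on the closed fibre: sections are the reduction of the sections
-/

set_option autoImplicit false
set_option backward.isDefEq.respectTransparency false
set_option backward.isDefEq.respectTransparency.types false
set_option linter.style.haveILetI false
set_option maxHeartbeats 800000

universe u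

open CategoryTheory CategoryTheory.Limits AlgebraicGeometry TopologicalSpace Opposite
open Groth.Agent.PnCoh.Finite (mapLin deltaLin)

noncomputable section

namespace Groth.Agent.HilbFib

variable {A : Type u} [CommRing A] [IsNoetherianRing A] {X : Scheme.{u}} [X.Over (Spec (CommRingCat.of A))]
  [IsProper (X ↘ Spec (CommRingCat.of A))] {L : X.Modules}

/-- Twisting by the `n`-th power, as a functor. -/
abbrev twF (L : X.Modules) (n : ℕ) : X.Modules ⥤ X.Modules := AmpleVan.tw (CohB1.tensorPow L n)

theorem twF_obj (F L : X.Modules) (n : ℕ) : (twF L n).obj F = tw F L n := rfl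

omit [IsNoetherianRing A] [IsProper (X ↘ Spec (CommRingCat.of A))] in
theorem twF_map_smulMod (L F : X.Modules) (n : ℕ) (a : A) :
    (twF L n).map (Formal.smulMod A F a) = Formal.smulMod A ((twF L n).obj F) a :=
  SheafHomX.ten_map_smulMod (CohB1.tensorPow L n) F a

omit [IsNoetherianRing A] [IsProper (X ↘ Spec (CommRingCat.of A))] in
theorem isEquivalence_twF (hL : PicF.IsInvertible L) (n : ℕ) : (twF L n).IsEquivalence :=
  AmpleVan.isEquivalence_tw (InvX.isInvertible_tensorPow hL n)

omit [IsNoetherianRing A] [IsProper (X ↘ Spec (CommRingCat.of A))] in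
theorem surjective_mapLin_g {S : ShortComplex X.Modules} (hS : S.ShortExact)
    (h : Subsingleton (Coh.HH X S.X₁ (0 + 1))) : Function.Surjective (mapLin A S.g 0) := fun x =>
  PnCoh.Finite.exists_of_deltaLin_eq_zero (A := A) hS 0 (Subsingleton.elim _ _)

omit [IsNoetherianRing A] [IsProper (X ↘ Spec (CommRingCat.of A))] in
theorem exists_of_mapLin_g {S : ShortComplex X.Modules} (hS : S.ShortExact) {x : Coh.HH X S.X₂ 0}
    (h : mapLin A S.g 0 x = 0) : ∃ w, mapLin A S.f 0 w = x :=
  by
  have hT := QCoh.toAb_shortExact hS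
  exact Abelian.Ext.covariant_sequence_exact₂ _ hT x h

/-- The algebra of one step. -/
theorem ker_comp_eq {H₀ H₁ H₂ : Type*} [AddCommGroup H₀] [Module A H₀] [AddCommGroup H₁] [Module A H₁]
    [AddCommGroup H₂] [Module A H₂] {r : ℕ} (a : Fin (r + 1) → A) (f : H₀ →ₗ[A] H₁) (g : H₁ →ₗ[A] H₂)
    (hs : Function.Surjective f) (hf : LinearMap.ker f = Ideal.span (Set.range fun j : Fin r => a j.castSucc) • (⊤ : Submodule A H₀))
    (hg : ∀ y, g y = 0 ↔ ∃ z, a (Fin.last r) • z = y) :
    LinearMap.ker (g ∘ₗ f) = Ideal.span (Set.range a) • (⊤ : Submodule A H₀) := by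
  have hle : Ideal.span (Set.range fun j : Fin r => a j.castSucc) ≤ Ideal.span (Set.range a) :=
    Ideal.span_mono (by rintro _ ⟨j, rfl⟩; exact ⟨_, rfl⟩)
  refine le_antisymm (fun x hx => ?_) (Submodule.smul_le.2 fun c hc y _ => ?_)
  · obtain ⟨z, hz⟩ := (hg _).1 hx
    obtain ⟨x', rfl⟩ := hs z
    have hmem : x - a (Fin.last r) • x' ∈ LinearMap.ker f := by
      rw [LinearMap.mem_ker, map_sub, map_smul, hz, sub_self]
    rw [hf] at hmem
    have := Submodule.add_mem _ (Submodule.smul_mono_left hle hmem)
      (Submodule.smul_mem_smul (Ideal.subset_span ⟨Fin.last r, rfl⟩) (Submodule.mem_top (x := x')))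
    rwa [sub_add_cancel] at this
  · induction hc using Submodule.span_induction with
    | mem c hc =>
      obtain ⟨i, rfl⟩ := hc
      rw [LinearMap.mem_ker, LinearMap.comp_apply, map_smul]
      induction i using Fin.lastCases with
      | last => exact (hg _).2 ⟨_, rfl⟩
      | cast i =>
        have h0 : a i.castSucc • y ∈ LinearMap.ker f := by
          rw [hf]
          exact Submodule.smul_mem_smul (Ideal.subset_span ⟨i, rfl⟩) Submodule.mem_top
        rw [← map_smul, LinearMap.mem_ker.1 h0, map_zero]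
    | zero => rw [zero_smul]; exact Submodule.zero_mem _
    | add c d _ _ hc hd => rw [add_smul]; exact Submodule.add_mem _ hc hd
    | smul d c _ hc => rw [smul_eq_mul, mul_smul]; exact Submodule.smul_mem _ _ hc

omit [IsNoetherianRing A] [IsProper (X ↘ Spec (CommRingCat.of A))] in
/-- The sections of the cokernel of a multiplication. -/
theorem mapLin_smul_cokernel {M I P : X.Modules} (e : M ⟶ I) (ι : I ⟶ M) (p : M ⟶ P) (b : A)
    (he : e ≫ ι = Formal.smulMod A M b) (hp : Formal.smulMod A M b ≫ p = 0) (w : ι ≫ p = 0)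
    (hS : (ShortComplex.mk ι p w).ShortExact) (hse : Function.Surjective (mapLin A e 0)) (y : Coh.HH X M 0) :
    mapLin A p 0 y = 0 ↔ ∃ z, b • z = y := by
  constructor
  · intro h
    obtain ⟨v, hv⟩ := exists_of_mapLin_g (A := A) (S := ShortComplex.mk ι p w) hS h
    obtain ⟨z, rfl⟩ := hse v
    rw [FFun.mapLin_comp, FFun.mapLin_congr he 0, FFun.mapLin_smulMod] at hv
    exact ⟨z, hv⟩
  · rintro ⟨z, rfl⟩
    rw [← FFun.mapLin_smulMod, FFun.mapLin_comp, FFun.mapLin_congr hp 0]
    show Sheaf.H.map ((QCoh.toAbFunctor X).map 0) 0 _ = 0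
    rw [Functor.map_zero]
    show ((Sheaf.functorH _ 0).map 0).hom _ = 0
    rw [Functor.map_zero]
    rfl

omit [IsNoetherianRing A] [IsProper (X ↘ Spec (CommRingCat.of A))] in
theorem shortExact_twF (hL : PicF.IsInvertible L) (n : ℕ) {S : ShortComplex X.Modules} (hS : S.ShortExact) :
    ∃ w, (ShortComplex.mk ((twF L n).map S.f) ((twF L n).map S.g) w).ShortExact := by
  haveI := isEquivalence_twF hL n
  haveI : (twF L n).Additive := Functor.additive_of_preserves_binary_products _
  exact ⟨(S.map (twF L n)).zero, hS.map_of_exact _⟩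

omit [IsNoetherianRing A] [IsProper (X ↘ Spec (CommRingCat.of A))] in
theorem surjective_twF_map (hL : PicF.IsInvertible L) (n : ℕ) {S : ShortComplex X.Modules} (hS : S.ShortExact)
    (h : Subsingleton (Coh.HH X ((twF L n).obj S.X₁) (0 + 1))) :
    Function.Surjective (mapLin A ((twF L n).map S.g) 0) := by
  obtain ⟨w, hw⟩ := shortExact_twF hL n hS
  refine surjective_mapLin_g (A := A) (S := ShortComplex.mk ((twF L n).map S.f) ((twF L n).map S.g) w) hw ?_
  exact h

/-- Killing finitely many scalars, one after the other. -/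
theorem exists_reduce (hL : CohB1.IsAmple L) {F : X.Modules} (hF : Coh.IsCoh F) : ∀ {r : ℕ} (a : Fin r → A),
    ∃ (Q : X.Modules) (φ : F ⟶ Q), Coh.IsCoh Q ∧ Epi φ ∧ (∀ j, Formal.smulMod A Q (a j) = 0) ∧
      (∀ {Z : Scheme.{u}} (G : X.Modules ⥤ Z.Modules) [G.IsLeftAdjoint],
        (∀ (M : X.Modules) (j : Fin r), G.map (Formal.smulMod A M (a j)) = 0) → IsIso (G.map φ)) ∧
      ∃ N : ℕ, ∀ n, N ≤ n → Function.Surjective (mapLin A ((twF L n).map φ) 0) ∧
        LinearMap.ker (mapLin A ((twF L n).map φ) 0) =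
          Ideal.span (Set.range a) • (⊤ : Submodule A (Coh.HH X ((twF L n).obj F) 0))
  | 0, a => by
    have hk : ∀ n, mapLin A ((twF L n).map (𝟙 F)) 0 = LinearMap.id := fun n => by
      refine LinearMap.ext fun x => ?_
      show Sheaf.H.map ((SheafOfModules.toSheaf _).map ((twF L n).map (𝟙 F))) 0 x = x
      rw [CategoryTheory.Functor.map_id, CategoryTheory.Functor.map_id]
      exact Sheaf.H.map_id_apply x
    refine ⟨F, 𝟙 F, hF, inferInstance, fun j => j.elim0, fun G _ _ => inferInstance, 0, fun n _ => ?_⟩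
    rw [hk n]
    refine ⟨Function.surjective_id, ?_⟩
    rw [LinearMap.ker_id, Set.range_eq_empty, Ideal.span_empty, Submodule.bot_smul]
  | r + 1, a => by
    obtain ⟨Q, φ, hQ, hφ, hkill, hiso, N, hN⟩ := exists_reduce hL hF (r := r) fun j : Fin r => a j.castSucc
    let b := a (Fin.last r)
    let g := Formal.smulMod A Q b
    let p := cokernel.π g
    let I := kernel p
    let e : Q ⟶ I := kernel.lift p g (cokernel.condition g)
    haveI : Epi e := inferInstanceAs (Epi (Abelian.factorThruImage g))
    have he : e ≫ kernel.ι p = g := kernel.lift_ι _ _ _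
    let K := kernel e
    have hQ' : Coh.IsCoh (cokernel g) := QCoh.isCoh_cokernel hQ.1 hQ g
    haveI : IsLocallyNoetherian X := LocallyOfFiniteType.isLocallyNoetherian (X ↘ Spec (CommRingCat.of A))
    have hIq : Coh.IsQCoh I := QCoh.isQCoh_kernel hQ.1 hQ'.1 p
    have hI : Coh.IsCoh I := QCoh.isCoh_of_mono (kernel.ι p) hQ hIq
    have hK : Coh.IsCoh K := QCoh.isCoh_of_mono (kernel.ι e) hQ (QCoh.isQCoh_kernel hQ.1 hIq e)
    obtain ⟨N₁, hN₁⟩ := AmpleVan.exists_vanishing (A := A) hL hI
    obtain ⟨N₂, hN₂⟩ := AmpleVan.exists_vanishing (A := A) hL hK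
    haveI : Epi (φ ≫ p) := epi_comp _ _
    refine ⟨cokernel g, φ ≫ p, hQ', inferInstance, ?_, ?_, max N (max N₁ N₂), fun n hn => ?_⟩
    · have hkill' : ∀ (c : A), Formal.smulMod A Q c ≫ p = 0 → Formal.smulMod A (cokernel g) c = 0 := fun c hc => by
        rw [← cancel_epi p, ← FFun.smulMod_naturality p c, hc, comp_zero]
      intro j
      induction j using Fin.lastCases with
      | last => exact hkill' b (cokernel.condition g)
      | cast j => exact hkill' _ (by rw [hkill j, zero_comp])
    · intro Z G _ hG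
      haveI : G.PreservesZeroMorphisms := Functor.preservesZeroMorphisms_of_isLeftAdjoint G
      haveI := hiso G fun M j => hG M j.castSucc
      have hp : IsIso (G.map p) := CokernelCofork.IsColimit.isIso_π _
        (CokernelCofork.mapIsColimit _ (cokernelIsCokernel g) G) (hG Q (Fin.last r))
      rw [G.map_comp]
      infer_instance
    · obtain ⟨hs, hker⟩ := hN n (le_trans (le_max_left _ _) hn)
      haveI := isEquivalence_twF hL.1 n
      haveI : (twF L n).Additive := Functor.additive_of_preserves_binary_products _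
      let T := twF L n
      have S1 : (ShortComplex.mk (kernel.ι e) e (kernel.condition e)).ShortExact :=
        { exact := ShortComplex.exact_kernel _, mono_f := inferInstance, epi_g := inferInstance }
      have S2 : (ShortComplex.mk (kernel.ι p) p (kernel.condition p)).ShortExact :=
        { exact := ShortComplex.exact_kernel _, mono_f := inferInstance, epi_g := inferInstance }
      have hn1 : N₁ ≤ n := le_trans (le_trans (le_max_left _ _) (le_max_right _ _)) hn
      have hn2 : N₂ ≤ n := le_trans (le_trans (le_max_right _ _) (le_max_right _ _)) hn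
      obtain ⟨w2, T2⟩ := shortExact_twF hL.1 n S2
      have h1 : Subsingleton (Coh.HH X ((twF L n).obj K) (0 + 1)) := hN₂ n hn2 0
      have h2 : Subsingleton (Coh.HH X ((twF L n).obj I) (0 + 1)) := hN₁ n hn1 0
      have hse : Function.Surjective (mapLin A (T.map e) 0) := surjective_twF_map (A := A) hL.1 n
        (S := ShortComplex.mk (kernel.ι e) e (kernel.condition e)) S1 h1
      have hsp : Function.Surjective (mapLin A (T.map p) 0) := surjective_twF_map (A := A) hL.1 n
        (S := ShortComplex.mk (kernel.ι p) p (kernel.condition p)) S2 h2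
      have hcomp : mapLin A (T.map (φ ≫ p)) 0 = mapLin A (T.map p) 0 ∘ₗ mapLin A (T.map φ) 0 :=
        LinearMap.ext fun x => (FFun.mapLin_congr (T.map_comp φ p) 0 x).trans (FFun.mapLin_comp _ _ 0 x).symm
      have hTe : T.map e ≫ T.map (kernel.ι p) = Formal.smulMod A (T.obj Q) b := by
        rw [← T.map_comp, he]
        exact twF_map_smulMod L Q n b
      have hTp : Formal.smulMod A (T.obj Q) b ≫ T.map p = 0 := by
        rw [← hTe, Category.assoc, ← T.map_comp, kernel.condition, T.map_zero, comp_zero]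
      rw [hcomp]
      exact ⟨hsp.comp hs, ker_comp_eq a (mapLin A (T.map φ) 0) (mapLin A (T.map p) 0) hs hker fun y =>
        mapLin_smul_cokernel (T.map e) (T.map (kernel.ι p)) (T.map p) b hTe hTp w2 T2 hse y⟩

omit [IsNoetherianRing A] [IsProper (X ↘ Spec (CommRingCat.of A))] in
/-- An isomorphism of modules on cohomology, linearly. -/
def mapLinEquiv {M N : X.Modules} (e : M ≅ N) (p : ℕ) : Coh.HH X M p ≃ₗ[A] Coh.HH X N p :=
  LinearEquiv.ofLinear (mapLin A e.hom p) (mapLin A e.inv p)
    (LinearMap.ext fun x => ((FFun.mapLin_comp _ _ p x).trans (FFun.mapLin_congr e.inv_hom_id p x)).trans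
      (show Sheaf.H.map ((QCoh.toAbFunctor X).map (𝟙 N)) p x = x by
        rw [CategoryTheory.Functor.map_id]; exact Sheaf.H.map_id_apply x))
    (LinearMap.ext fun x => ((FFun.mapLin_comp _ _ p x).trans (FFun.mapLin_congr e.hom_inv_id p x)).trans
      (show Sheaf.H.map ((QCoh.toAbFunctor X).map (𝟙 M)) p x = x by
        rw [CategoryTheory.Functor.map_id]; exact Sheaf.H.map_id_apply x))

/-- The residue field of the closed point, as a quotient of the ring. -/
theorem exists_residue [IsLocalRing A] :
    ∃ α : A →+* (Spec (CommRingCat.of A)).residueField (IsLocalRing.closedPoint A), Function.Surjective α ∧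
      RingHom.ker α = IsLocalRing.maximalIdeal A ∧
      Spec.map (CommRingCat.ofHom α) =
        (Spec (CommRingCat.of A)).fromSpecResidueField (IsLocalRing.closedPoint A) := by
  let x : Spec (CommRingCat.of A) := IsLocalRing.closedPoint A
  haveI : x.asIdeal.IsMaximal := IsLocalRing.maximalIdeal.isMaximal A
  let i := Scheme.Spec.residueFieldIso (CommRingCat.of A) x
  refine ⟨(CommRingCat.ofHom (algebraMap A x.asIdeal.ResidueField) ≫ i.inv).hom, ?_, ?_, ?_⟩
  · exact i.commRingCatIsoToRingEquiv.symm.surjective.comp (Ideal.algebraMap_residueField_surjective _)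
  · ext a
    show i.commRingCatIsoToRingEquiv.symm (algebraMap A x.asIdeal.ResidueField a) = 0 ↔ _
    rw [map_eq_zero_iff _ i.commRingCatIsoToRingEquiv.symm.injective, Ideal.algebraMap_residueField_eq_zero]
    rfl
  · show Spec.map (CommRingCat.ofHom (algebraMap A x.asIdeal.ResidueField) ≫ i.inv) = _
    rw [Spec.map_comp]
    exact Scheme.Spec.map_residueFieldIso_inv_eq_fromSpecResidueField (CommRingCat.of A) x

omit [IsNoetherianRing A] [IsProper (X ↘ Spec (CommRingCat.of A))] in
/-- Ranks through a surjection onto a field. -/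
theorem finrank_of_surjective {k : Type u} [Field k] (α : A →+* k) (hα : Function.Surjective α)
    {m : Ideal A} (hm : RingHom.ker α = m) {H V : Type u} [AddCommGroup H] [Module A H] [AddCommGroup V]
    [Module k V] (j : (H ⧸ m • (⊤ : Submodule A H)) ≃+ V) (hj : ∀ (a : A) x, j (a • x) = α a • j x) :
    Module.finrank (A ⧸ m) (H ⧸ m • (⊤ : Submodule A H)) = Module.finrank k V := by
  subst hm
  refine congrArg Cardinal.toNat (rank_eq_of_equiv_equiv (RingHom.quotientKerEquivOfSurjective hα) j
    (RingEquiv.bijective _) fun c x => ?_)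
  obtain ⟨a, rfl⟩ := Ideal.Quotient.mk_surjective c
  exact hj a x

/-- For large twists the higher cohomology of the closed fibre vanishes and its sections are the reduction of the
sections over the ring. -/
theorem exists_χ_closed [IsLocalRing A] (hL : CohB1.IsAmple L) {F : X.Modules} (hF : Coh.IsCoh F) :
    ∃ N : ℕ, ∀ n, N ≤ n → χ (X ↘ Spec (CommRingCat.of A)) (tw F L n) (IsLocalRing.closedPoint A) =
      (Module.finrank (A ⧸ IsLocalRing.maximalIdeal A)
        (Coh.HH X (tw F L n) 0 ⧸ IsLocalRing.maximalIdeal A • (⊤ : Submodule A (Coh.HH X (tw F L n) 0))) : ℤ) := by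
  set π := X ↘ Spec (CommRingCat.of A) with hπ
  obtain ⟨r, a, ha⟩ := Submodule.fg_iff_exists_fin_generating_family.1
    (IsNoetherian.noetherian (IsLocalRing.maximalIdeal A))
  obtain ⟨Q, φ, hQ, hφ, hkill, hiso, N, hN⟩ := exists_reduce hL hF a
  obtain ⟨N', hN'⟩ := AmpleVan.exists_vanishing (A := A) hL hQ
  refine ⟨max N N', fun n hn => ?_⟩
  obtain ⟨hs, hker⟩ := hN n ((le_max_left _ _).trans hn)
  have hvan : ∀ q, Subsingleton (Coh.HH X ((twF L n).obj Q) (q + 1)) := hN' n ((le_max_right _ _).trans hn)
  obtain ⟨q, sq⟩ := AmpleVan.exists_isPullback_fiber A X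
  obtain ⟨α, hα, hαk, hαs⟩ := exists_residue (A := A)
  let i := π.fiberι (IsLocalRing.closedPoint A)
  haveI hcl : IsClosedImmersion i := MorphismProperty.of_isPullback sq.flip
    (IsClosedImmersion.spec_of_surjective _ Ideal.Quotient.mk_surjective)
  letI : (π.fiber (IsLocalRing.closedPoint A)).Over (Spec (CommRingCat.of A)) := ⟨i ≫ π⟩
  haveI := isEquivalence_twF hL.1 n
  haveI : (twF L n).Additive := Functor.additive_of_preserves_binary_products _
  have hfac : i ≫ π = π.fiberToSpecResidueField (IsLocalRing.closedPoint A) ≫ Spec.map (CommRingCat.ofHom α) := by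
    rw [hαs]
    exact pullback.condition
  have hgl : ∀ c : A, Coh.toGlobal (i ≫ π) c =
      Coh.toGlobal (π.fiberToSpecResidueField (IsLocalRing.closedPoint A)) (α c) := fun c => by
    rw [hfac]
    show (π.fiberToSpecResidueField (IsLocalRing.closedPoint A)).appTop
      ((Spec.map (CommRingCat.ofHom α)).appTop ((Scheme.ΓSpecIso (CommRingCat.of A)).inv c)) = _
    exact congrArg (π.fiberToSpecResidueField (IsLocalRing.closedPoint A)).appTop
      (congr($(Scheme.ΓSpecIso_inv_naturality (CommRingCat.ofHom α)) c)).symm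
  have hsmul0 : ∀ (M : (π.fiber (IsLocalRing.closedPoint A)).Modules), ∀ c ∈ IsLocalRing.maximalIdeal A,
      Formal.smulMod A M c = 0 := fun M c hc => by
    rw [← hαk, RingHom.mem_ker] at hc
    refine Scheme.Modules.hom_ext _ _ fun U => ?_
    ext x
    refine (FFun.smulMod_app (A := A) M c U x).trans ?_
    rw [show Coh.toGlobal ((π.fiber (IsLocalRing.closedPoint A)) ↘ Spec (CommRingCat.of A)) c = 0 from
      (hgl c).trans (by rw [hc, map_zero]), map_zero]
    exact zero_smul _ x
  have hpull : ∀ (M : X.Modules), ∀ c ∈ IsLocalRing.maximalIdeal A,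
      (Scheme.Modules.pullback i).map (Formal.smulMod A M c) = 0 := fun M c hc => by
    let adj := Scheme.Modules.pullbackPushforwardAdjunction i
    apply (adj.homEquiv _ _).injective
    rw [Adjunction.homEquiv_unit, Adjunction.homEquiv_unit]
    refine (adj.unit.naturality (Formal.smulMod A M c)).symm.trans ?_
    simp only [Functor.id_map, Functor.map_zero, comp_zero]
    refine (FFun.smulMod_naturality (A := A) (adj.unit.app M) c).trans ?_
    show adj.unit.app M ≫ Formal.smulMod A ((Scheme.Modules.pushforward i).obj _) c = 0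
    rw [← AmpleVan.push_map_smulMod i rfl, hsmul0 _ c hc, Functor.map_zero, comp_zero]
  have hspan : Ideal.span (Set.range a) = IsLocalRing.maximalIdeal A := ha
  have hmem : ∀ j, a j ∈ IsLocalRing.maximalIdeal A := fun j => hspan ▸ Ideal.subset_span ⟨j, rfl⟩
  haveI : IsIso ((Scheme.Modules.pullback i).map ((twF L n).map φ)) :=
    hiso (twF L n ⋙ Scheme.Modules.pullback i) fun M j => by
      show (Scheme.Modules.pullback i).map ((twF L n).map _) = 0
      rw [twF_map_smulMod]
      exact hpull _ _ (hmem j)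
  have hQn : Coh.IsQCoh ((twF L n).obj Q) := isQCoh_tw hQ.1 hL.1 n
  obtain ⟨eQ⟩ := AmpleVan.exists_eq_push_of_killed sq hQn fun c hc => by
    have hle : Ideal.span (Set.range a) ≤ FFun.killIdeal ((twF L n).obj Q) := Ideal.span_le.2 (by
      rintro _ ⟨j, rfl⟩
      show Formal.smulMod A _ (a j) = 0
      rw [← twF_map_smulMod, hkill j, Functor.map_zero])
    exact hle (hspan.symm ▸ hc)
  let W := (Scheme.Modules.pullback i).obj (tw F L n)
  let eW : (twF L n).obj Q ≅ (Coh.push i).obj W :=
    eQ ≪≫ (Coh.push i).mapIso (asIso ((Scheme.Modules.pullback i).map ((twF L n).map φ))).symm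
  have hW : Coh.IsQCoh W := QCoh.isQCoh_pullback i (isQCoh_tw hF.1 hL.1 n)
  have hlin : ∀ p, Nonempty (Coh.HH X ((twF L n).obj Q) p ≃ₗ[A] Coh.HH (π.fiber (IsLocalRing.closedPoint A)) W p) :=
    fun p => by
    obtain ⟨e⟩ := QCoh.HH_push_linear i (Coh.toGlobal π) (Coh.toGlobal (i ≫ π)) (fun c => rfl) hW p
    exact ⟨(mapLinEquiv eW p).trans e.symm⟩
  letI := PerfAux.moduleFiberH π (tw F L n) (IsLocalRing.closedPoint A)
  show (∑ᶠ p : ℕ, (-1 : ℤ) ^ p * (PerfAux.betti π (tw F L n) (IsLocalRing.closedPoint A) p : ℤ)) = _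
  rw [finsum_eq_single _ 0 fun p hp => ?_]
  · rw [pow_zero, one_mul, Nat.cast_inj]
    obtain ⟨e⟩ := hlin 0
    let j := ((Submodule.quotEquivOfEq _ _ (hspan ▸ hker.symm)).trans
      (LinearMap.quotKerEquivOfSurjective _ hs)).trans e
    refine (finrank_of_surjective α hα hαk j.toAddEquiv fun c x => (j.map_smul c x).trans ?_).symm
    show Coh.toGlobal (i ≫ π) c • j x = Coh.toGlobal (π.fiberToSpecResidueField _) (α c) • j x
    rw [hgl]
  · obtain ⟨p, rfl⟩ := Nat.exists_eq_add_one_of_ne_zero hp
    obtain ⟨e⟩ := hlin (p + 1)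
    haveI := hvan p
    haveI : Subsingleton (PerfAux.fiberH π (tw F L n) (IsLocalRing.closedPoint A) (p + 1)) :=
      e.symm.toEquiv.subsingleton
    rw [show PerfAux.betti π (tw F L n) (IsLocalRing.closedPoint A) (p + 1) = 0 from Module.finrank_zero_of_subsingleton]
    simp

end Groth.Agent.HilbFib
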